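import Cfsg.Agent.Lib.Suzuki.Binary.Trace

/-!
# Products of involutions, and two product identities in a class of elements of odd order
-/

set_option autoImplicit false
set_option linter.unusedSectionVars false

namespace Cfsg.Agent.Suzuki.Binary

open Matrix MulAction Cfsg.Agent.Suzuki

variable {F : Type*} [Field F] [Fintype F] [CharP F 2] {m : ℕ}
variable (hm : 1 ≤ m) (hF : Fintype.card F = 2 ^ (2 * m + 1))

/-- The involution fixing the point `(1, 1)` of the ovoid opposite to `tr 0 1`. -/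
def v1 (hF : Fintype.card F = 2 ^ (2 * m + 1)) : Cfsg.Sz F m := sw hF * tr hF 0 1 * sw hF

/-- The standard product of two non-commuting involutions. -/
def prodRep (hF : Fintype.card F = 2 ^ (2 * m + 1)) (p : F) : Cfsg.Sz F m := tr hF 0 p * v1 hF

theorem mul_self_of_order_two {G : Type*} [Group G] {x : G} (h : orderOf x = 2) : x * x = 1 := by
  rw [← sq, ← h, pow_orderOf_eq_one]

theorem inv_of_order_two {G : Type*} [Group G] {x : G} (h : orderOf x = 2) : x⁻¹ = x :=
  inv_eq_of_mul_eq_one_right (mul_self_of_order_two h)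

include hF

theorem tc_prodRep (p : F) : tc (prodRep hF p : Cfsg.Sz F m) = theta F m p := by
  rw [prodRep, v1]; exact tc_two_prod hF p

include hm

/-- An element of order two or four fixing infinity is a translation. -/
theorem trType_fixing_infty {x : Cfsg.Sz F m} (hx : IsTrType hF x)
    (hi : x • infty (F := F) m = infty m) : ∃ a b, x = tr hF a b := by
  obtain ⟨a, b, s, hs⟩ := exists_tr_to hm hF hi
  by_cases h1 : s = 1
  · exact ⟨a, b, by rw [hs, h1, tor_one, mul_one]⟩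
  exfalso
  obtain ⟨c, d, hcd⟩ := exists_conj_tor hF a b h1
  have hT : x ∈ (torusSubgroup (m := m) hF).map (MulAut.conj (tr hF c d)).toMonoidHom := by
    rw [hs, ← hcd]
    exact ⟨tor hF s, (mem_torusSubgroup hF).2 ⟨s, rfl⟩, rfl⟩
  exact hx.notMem_tor hm hF ((isTor_torusSubgroup hm hF).map_conj hm hF _) hT

theorem involution_fixing_infty {x : Cfsg.Sz F m} (hx : orderOf x = 2)
    (hi : x • infty (F := F) m = infty m) : ∃ b, b ≠ 0 ∧ x = tr hF 0 b := by
  obtain ⟨a, b, rfl⟩ := trType_fixing_infty hm hF (trType_of_order hm hF (Or.inl hx)) hi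
  obtain ⟨rfl, hb⟩ := (orderOf_tr_zero_iff hF).1.1 hx
  exact ⟨b, hb, rfl⟩

theorem isConj_involutions {x y : Cfsg.Sz F m} (hx : orderOf x = 2) (hy : orderOf y = 2) :
    IsConj x y := by
  rcases conj_or_conj_inv hm hF (Or.inl hx) (hy.trans hx.symm) with h | h
  · exact h
  · rwa [inv_of_order_two hx] at h

theorem exists_pair_to {p q : Cfsg.suzukiOvoid F m} (hpq : p ≠ q) :
    ∃ g : Cfsg.Sz F m, g • p = infty m ∧ g • q = point m 0 0 := by
  exact MulAction.is_two_pretransitive_iff.1 (two_transitive (m := m) hF) hpq (point_ne_infty _ _).symm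

/-- Two non-commuting involutions, normalised. -/
theorem exists_conj_pair {u v : Cfsg.Sz F m} (hu : orderOf u = 2) (hv : orderOf v = 2)
    (hne : u * v ≠ v * u) :
    ∃ h p, p ≠ 0 ∧ h * u * h⁻¹ = tr hF 0 p ∧ h * v * h⁻¹ = (v1 hF : Cfsg.Sz F m) := by
  obtain ⟨pu, hpu, -⟩ := (trType_of_order hm hF (Or.inl hu)).exists_fixed hm hF
  obtain ⟨pv, hpv, -⟩ := (trType_of_order hm hF (Or.inl hv)).exists_fixed hm hF
  have fixed : ∀ (g x : Cfsg.Sz F m) (p r : Cfsg.suzukiOvoid F m), x • p = p → g • p = r →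
      (g * x * g⁻¹) • r = r := by
    intro g x p r hx hg
    rw [← hg, mul_smul, mul_smul, inv_smul_smul, hx]
  by_cases hpq : pu = pv
  · exfalso
    subst hpq
    obtain ⟨g, hg⟩ := exists_to_infty hF pu
    have hg' : g⁻¹ • pu = infty m := by rw [← hg, inv_smul_smul]
    obtain ⟨b, -, eb⟩ := involution_fixing_infty hm hF
      (by rw [orderOf_conj_eq, hu]) (fixed g⁻¹ u pu _ hpu hg')
    obtain ⟨d, -, ed⟩ := involution_fixing_infty hm hF
      (by rw [orderOf_conj_eq, hv]) (fixed g⁻¹ v pu _ hpv hg')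
    have e : tr hF 0 b * tr hF 0 d = (tr hF 0 d * tr hF 0 b : Cfsg.Sz F m) := by
      simp only [tr_mul]
      congr 1
      ring
    rw [← eb, ← ed] at e
    refine hne (mul_left_cancel (a := g⁻¹) (mul_right_cancel (b := g⁻¹⁻¹) ?_))
    calc g⁻¹ * (u * v) * g⁻¹⁻¹ = g⁻¹ * u * g⁻¹⁻¹ * (g⁻¹ * v * g⁻¹⁻¹) := by group
      _ = g⁻¹ * v * g⁻¹⁻¹ * (g⁻¹ * u * g⁻¹⁻¹) := e
      _ = g⁻¹ * (v * u) * g⁻¹⁻¹ := by group
  obtain ⟨g, hgu, hgv⟩ := exists_pair_to hm hF hpq
  obtain ⟨b, hb, eb⟩ := involution_fixing_infty hm hF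
    (by rw [orderOf_conj_eq, hu]) (fixed g u pu _ hpu hgu)
  obtain ⟨d, hd, ed⟩ := involution_fixing_infty hm hF
    (x := sw hF * (g * v * g⁻¹) * (sw hF)⁻¹) (by rw [orderOf_conj_eq, orderOf_conj_eq, hv])
    (fixed (sw hF) _ _ _ (fixed g v pv _ hpv hgv) (sw_smul_zero hF))
  have ed' : g * v * g⁻¹ = sw hF * tr hF 0 d * sw hF := by
    rw [← ed, sw_inv]
    calc g * v * g⁻¹ = (sw hF * sw hF) * (g * v * g⁻¹) * (sw hF * sw hF) := by rw [sw_mul_self]; group
      _ = _ := by group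
  obtain ⟨s, hs⟩ := scale_surj (m := m) hF d⁻¹ (inv_ne_zero hd)
  refine ⟨tor hF s⁻¹ * g, ((s⁻¹ : Fˣ) : F) ^ 2 ^ (m + 1) * ((s⁻¹ : Fˣ) : F) ^ 2 * b,
    mul_ne_zero (mul_ne_zero (pow_ne_zero _ (s⁻¹).ne_zero) (pow_ne_zero _ (s⁻¹).ne_zero)) hb, ?_, ?_⟩
  · rw [show tor hF s⁻¹ * g * u * (tor hF s⁻¹ * g)⁻¹ = tor hF s⁻¹ * (g * u * g⁻¹) * (tor hF s⁻¹)⁻¹ by group,
      eb, conj_tr, mul_zero]
  · rw [show tor hF s⁻¹ * g * v * (tor hF s⁻¹ * g)⁻¹ = tor hF s⁻¹ * (g * v * g⁻¹) * (tor hF s⁻¹)⁻¹ by group,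
      ed']
    have e1 : tor hF s⁻¹ * sw hF = (sw hF * tor hF s : Cfsg.Sz F m) := by
      rw [← tor_swap hF s]
      calc sw hF * tor hF s * sw hF * sw hF = sw hF * tor hF s * (sw hF * sw hF) := by group
        _ = _ := by rw [sw_mul_self, mul_one]
    have e2 : sw hF * (tor hF s⁻¹)⁻¹ = ((tor hF s)⁻¹ * sw hF : Cfsg.Sz F m) := by
      rw [tor_inv, tor_inv, inv_inv, ← tor_swap hF s]
      calc sw hF * tor hF s = sw hF * tor hF s * (sw hF * sw hF) := by rw [sw_mul_self, mul_one]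
        _ = _ := by group
    rw [show tor hF s⁻¹ * (sw hF * tr hF 0 d * sw hF) * (tor hF s⁻¹)⁻¹ =
      (tor hF s⁻¹ * sw hF) * tr hF 0 d * (sw hF * (tor hF s⁻¹)⁻¹) by group, e1, e2,
      show sw hF * tor hF s * tr hF 0 d * ((tor hF s)⁻¹ * sw hF) =
        sw hF * (tor hF s * tr hF 0 d * (tor hF s)⁻¹) * sw hF by group, conj_tr, hs, mul_zero,
      inv_mul_cancel₀ hd]
    rfl

/-- A non-identity element not of translation type is conjugate to a standard product. -/
theorem exists_conj_prodRep {c : Cfsg.Sz F m} (hc1 : c ≠ 1) (hc : ¬ IsTrType hF c) :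
    ∃ h p, p ≠ 0 ∧ h * c * h⁻¹ = prodRep hF p := by
  have hT := (trType_or_isTor hm hF hc1).resolve_left hc
  set T := Subgroup.centralizer ({c} : Set (Cfsg.Sz F m)) with hTdef
  have hcT : c ∈ T := Subgroup.mem_centralizer_singleton_iff.2 rfl
  obtain ⟨i, hiN, hio⟩ : ∃ i, i ∈ Subgroup.normalizer (T : Set (Cfsg.Sz F m)) ∧ orderOf i = 2 := by
    have h := (hT.count hm hF).1
    have hpos : 0 < Nat.card T := Nat.card_pos
    obtain ⟨i, hi⟩ := Set.nonempty_of_ncard_ne_zero
      (s := {y : Cfsg.Sz F m | y ∈ Subgroup.normalizer (T : Set (Cfsg.Sz F m)) ∧ orderOf y = 2}) (by omega)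
    exact ⟨i, hi.1, hi.2⟩
  have hinv := hT.inverted hm hF hiN hio hcT
  have hii := mul_self_of_order_two hio
  have hc2 : c * c ≠ 1 := fun e => hc (trType_of_order hm hF (Or.inl (orderOf_eq_prime (by rw [sq, e]) hc1)))
  have hic : orderOf (i * c) = 2 := by
    refine orderOf_eq_prime ?_ fun e => ?_
    · rw [sq, ← mul_assoc, hinv, inv_mul_cancel]
    · have : i = c⁻¹ := eq_inv_of_mul_eq_one_left e
      exact (trType_of_order hm hF (Or.inl hio)).notMem_tor hm hF hT (this ▸ T.inv_mem hcT)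
  have hne : i * (i * c) ≠ i * c * i := by
    rw [← mul_assoc, hii, one_mul, hinv]
    exact fun e => hc2 ((congrArg (· * c) e).trans (inv_mul_cancel c))
  obtain ⟨h, p, hp, h1, h2⟩ := exists_conj_pair hm hF hio hic hne
  refine ⟨h, p, hp, ?_⟩
  rw [prodRep, ← h1, ← h2]
  calc h * c * h⁻¹ = h * (i * i * c) * h⁻¹ := by rw [hii, one_mul]
    _ = _ := by group

theorem isConj_prodRep_of_tc {z : Cfsg.Sz F m} {p : F} (hp : p ≠ 0) (hz : tc z = theta F m p) :
    IsConj (prodRep hF p) z := by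
  have hne : theta F m p ≠ 0 := (map_ne_zero _).2 hp
  have hz1 : z ≠ 1 := fun e => hne (by rw [← hz, e, trace_one hF])
  have hzt : ¬ IsTrType hF z := by
    rintro ⟨h, a, b, -, he⟩
    exact hne (by rw [← hz, ← tc_conj h z, he, tc_tr])
  obtain ⟨h, p', -, he⟩ := exists_conj_prodRep hm hF hz1 hzt
  have e := congrArg (tc (F := F) (m := m)) he
  rw [tc_conj, hz, tc_prodRep] at e
  rw [(theta F m).injective e]
  exact (isConj_iff.2 ⟨h, he⟩).symm

omit hm in
theorem prodRep_not_trType {p : F} (hp : p ≠ 0) :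
    (prodRep hF p : Cfsg.Sz F m) ≠ 1 ∧ ¬ IsTrType hF (prodRep hF p : Cfsg.Sz F m) := by
  have hne : theta F m p ≠ 0 := (map_ne_zero _).2 hp
  refine ⟨fun e => hne ?_, ?_⟩
  · rw [← tc_prodRep hF p, e]
    exact trace_one hF
  · rintro ⟨h, a, b, -, he⟩
    exact hne (by rw [← tc_prodRep hF p, ← tc_conj h, he, tc_tr])

/-- The parameters for which a product of four translations has the trace `θ p`. -/
theorem exists_param {p : F} (hp : p ≠ 0) :
    ∃ y e : F, e ≠ 0 ∧ theta F m p * (1 + theta F m e) +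
      theta F m (p + y) * theta F m y * theta F m e +
      (e + theta F m e) * ((p + y) * theta F m y + theta F m (p + y) * y) = theta F m p := by
  classical
  have h2 : (2 : F) = 0 := CharTwo.two_eq_zero
  set L : F → F := fun l => theta F m p * (theta F m l + theta F m l ^ 2) + p * (theta F m l + l) with hL
  have hadd : ∀ a b, L (a + b) = L a + L b := by
    intro a b
    simp only [hL, map_add]
    linear_combination theta F m p * theta F m a * theta F m b * h2
  obtain ⟨l, hl0, hl1, hl⟩ : ∃ l : F, l ≠ 0 ∧ l ≠ 1 ∧ L l ≠ 1 := by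
    have hcard : 8 ≤ Fintype.card F := by
      rw [hF]
      exact le_trans (by norm_num) (Nat.pow_le_pow_right (by norm_num) (show 3 ≤ 2 * m + 1 by omega))
    have pick : ∀ S : Finset F, S.card < 8 → ∃ x, x ∉ S := fun S hS =>
      by
      obtain ⟨x, -, hx⟩ := Finset.exists_of_ssubset (Finset.ssubset_univ_iff.2 fun e : S = Finset.univ => by
        rw [e, Finset.card_univ] at hS; omega)
      exact ⟨x, hx⟩
    obtain ⟨a, ha⟩ := pick {0, 1} (by rw [Finset.card_pair zero_ne_one]; omega)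
    simp only [Finset.mem_insert, Finset.mem_singleton, not_or] at ha
    obtain ⟨b, hb⟩ := pick ({0, 1, a, a + 1} : Finset F) (lt_of_le_of_lt Finset.card_le_four (by norm_num))
    simp only [Finset.mem_insert, Finset.mem_singleton, not_or] at hb
    by_contra hcon
    push Not at hcon
    have e3 := hcon (a + b) (fun e => hb.2.2.1 (CharTwo.add_eq_zero.1 e).symm)
      (fun e => hb.2.2.2 (by linear_combination e - a * h2))
    rw [hadd, hcon a ha.1 ha.2, hcon b hb.1 hb.2.1] at e3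
    exact one_ne_zero (α := F) (by linear_combination e3)
  set K := p * theta F m p * (theta F m l + l) with hK
  set D := theta F m p + theta F m p * theta F m (l * p) + theta F m (l * p) ^ 2 + K with hD
  have hD' : D = theta F m p * (1 + L l) := by
    simp only [hD, hK, hL, map_mul]; ring
  have hK0 : K ≠ 0 := by
    rw [hK]
    refine mul_ne_zero (mul_ne_zero hp ((map_ne_zero _).2 hp)) fun e => ?_
    rcases eq_zero_or_one_of_theta hF (CharTwo.add_eq_zero.1 e) with h | h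
    exacts [hl0 h, hl1 h]
  have hD0 : D ≠ 0 := by
    rw [hD']
    exact mul_ne_zero ((map_ne_zero _).2 hp) fun e => hl (CharTwo.add_eq_zero.1 e).symm
  -- `e` with `θ e * D = e * K`
  obtain ⟨e, he0, he⟩ : ∃ e : F, e ≠ 0 ∧ theta F m e * D = e * K := by
    set c := K / D with hc
    have hc0 : c ≠ 0 := div_ne_zero hK0 hD0
    refine ⟨theta F m c * c, mul_ne_zero ((map_ne_zero _).2 hc0) hc0, ?_⟩
    rw [map_mul, theta_theta hF, show K = c * D from (div_mul_cancel₀ K hD0).symm]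
    ring
  refine ⟨l * p, e, he0, ?_⟩
  simp only [hD, hK] at he
  simp only [map_add, map_mul] at he ⊢
  linear_combination he + (theta F m p * theta F m e * theta F m l * p * l + theta F m p * theta F m l * e * p +
    theta F m p * theta F m l * e * p * l + theta F m p * e * p * l) * h2

theorem exists_involution_prodRep {p : F} (hp : p ≠ 0) :
    ∃ w : Cfsg.Sz F m, orderOf w = 2 ∧ IsConj (prodRep hF p) (prodRep hF p * w) := by
  obtain ⟨y, e, he, heq⟩ := exists_param hm hF hp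
  set ve : Cfsg.Sz F m := sw hF * tr hF 0 e * sw hF with hve
  refine ⟨tr hF 0 y * ve * tr hF 0 y, ?_, isConj_prodRep_of_tc hm hF hp ?_⟩
  · have hy : (tr hF 0 y)⁻¹ = (tr hF 0 y : Cfsg.Sz F m) := by rw [tr_inv]; simp
    have : orderOf (tr hF 0 y * ve * (tr hF 0 y)⁻¹) = 2 := by
      rw [orderOf_conj_eq, hve]
      nth_rewrite 2 [← sw_inv hF]
      rw [orderOf_conj_eq]
      exact orderOf_center_tr hF he
    rwa [hy] at this
  · rw [← tc_conj (tr hF 0 y),
      show tr hF 0 y * (prodRep hF p * (tr hF 0 y * ve * tr hF 0 y)) * (tr hF 0 y)⁻¹ =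
        tr hF 0 y * tr hF 0 p * v1 hF * tr hF 0 y * ve by rw [prodRep]; group,
      tr_mul, hve, v1]
    simp only [zero_pow (show 2 ^ (m + 1) ≠ 0 by positivity), zero_mul, add_zero]
    rw [tc_four_prod, show y + p + y = p by linear_combination y * (CharTwo.two_eq_zero : (2 : F) = 0),
      add_comm y p]
    exact heq

/-- A non-identity element of odd order times a suitable involution is one of its conjugates. -/
theorem exists_involution_mul {c : Cfsg.Sz F m} (hc1 : c ≠ 1) (hc : ¬ IsTrType hF c) :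
    ∃ w : Cfsg.Sz F m, orderOf w = 2 ∧ IsConj c (c * w) := by
  obtain ⟨h, p, hp, he⟩ := exists_conj_prodRep hm hF hc1 hc
  obtain ⟨w, hw, hcw⟩ := exists_involution_prodRep hm hF hp
  refine ⟨h⁻¹ * w * h⁻¹⁻¹, by rw [orderOf_conj_eq, hw], ?_⟩
  have h1 : IsConj c (prodRep hF p) := isConj_iff.2 ⟨h, he⟩
  refine (h1.trans hcw).trans (isConj_iff.2 ⟨h⁻¹, ?_⟩)
  rw [← he]; group

theorem exists_twist_prodRep {p : F} (hp : p ≠ 0) :
    ∃ c' : Cfsg.Sz F m, IsConj (prodRep hF p) c' ∧ IsConj (prodRep hF p) (prodRep hF p * c') ∧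
      c' ∉ Subgroup.centralizer ({prodRep hF p} : Set (Cfsg.Sz F m)) := by
  classical
  have h2 : (2 : F) = 0 := CharTwo.two_eq_zero
  obtain ⟨hc1, hct⟩ := prodRep_not_trType (m := m) hF hp
  obtain ⟨r, hr⟩ := exists_theta (m := m) hF p
  have hr2 : r ^ 2 = theta F m p := by rw [← hr, theta_theta hF]
  obtain ⟨μ, hμ⟩ : ∃ μ : F, μ ∉ ({0, 1} : Finset F) := by
    by_contra hcon
    push Not at hcon
    have h1 := Finset.card_le_card (s := (Finset.univ : Finset F)) (t := {0, 1}) fun x _ => hcon x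
    rw [Finset.card_univ, hF, Finset.card_pair zero_ne_one] at h1
    have h8 : 8 ≤ 2 ^ (2 * m + 1) :=
      le_trans (by norm_num) (Nat.pow_le_pow_right (by norm_num) (show 3 ≤ 2 * m + 1 by omega))
    omega
  simp only [Finset.mem_insert, Finset.mem_singleton, not_or] at hμ
  have hμθ : theta F m μ + μ ≠ 0 := fun e => by
    rcases eq_zero_or_one_of_theta hF (CharTwo.add_eq_zero.1 e) with h | h
    exacts [hμ.1 h, hμ.2 h]
  have hw : 1 + μ + theta F m μ ≠ 0 := fun e => by
    have e' := congrArg (theta F m) e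
    rw [map_add, map_add, map_one, theta_theta hF, map_zero] at e'
    have e3 : μ * (μ + 1) = 0 := by linear_combination e' + e - (theta F m μ + 1) * h2
    rcases mul_eq_zero.1 e3 with h | h
    exacts [hμ.1 h, hμ.2 (CharTwo.add_eq_zero.1 h)]
  have hr0 : r ≠ 0 := fun e => hp (by rw [← hr, e, map_zero])
  -- the translation
  obtain ⟨x, y, hf, hx0, hx⟩ : ∃ x y : F, ovf m x y = r ∧ x ≠ 0 ∧ theta F m x * x ≠ p := by
    have sol : ∀ w : F, w ≠ 0 → ∃ x : F, theta F m x * x ^ 2 = r / w ∧ x ≠ 0 := by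
      intro w hw0
      obtain ⟨x, hx⟩ := Finite.surjective_of_injective (theta_mul_sq_injective (m := m) hF) (r / w)
      have hx' : theta F m x * x ^ 2 = r / w := hx
      exact ⟨x, hx', fun e => div_ne_zero hr0 hw0 (by rw [← hx', e]; simp)⟩
    obtain ⟨x0, hx0, hx0'⟩ := sol 1 one_ne_zero
    obtain ⟨x1, hx1, hx1'⟩ := sol _ hw
    rw [div_one] at hx0
    by_cases h0 : theta F m x0 * x0 = p
    · refine ⟨x1, μ * (theta F m x1 * x1), ?_, hx1', fun h1 => ?_⟩
      · rw [ovf_eq, map_mul, map_mul, theta_theta hF]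
        rw [eq_div_iff hw] at hx1
        linear_combination hx1
      · have ee : x1 = x0 := by
          refine (div_eq_one_iff_eq hx0').1 (eq_one_of_theta_mul hF (m := m) ?_)
          rw [map_div₀]
          have : theta F m x0 ≠ 0 := (map_ne_zero _).2 hx0'
          field_simp
          linear_combination h1 - h0
        subst ee
        rw [eq_div_iff hw, hx0] at hx1
        exact hμθ (mul_left_cancel₀ hr0 (by linear_combination hx1))
    · exact ⟨x0, 0, by rw [ovf_eq, map_zero]; linear_combination hx0, hx0', h0⟩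
  set τ : Cfsg.Sz F m := tr hF x y with hτ
  have hcomm : tr hF 0 p * τ = τ * tr hF 0 p := by
    rw [hτ, tr_mul, tr_mul]; congr 1 <;> simp [add_comm]
  have hv : (v1 hF : Cfsg.Sz F m) * v1 hF = 1 := by
    rw [v1]
    calc sw hF * tr hF 0 1 * sw hF * (sw hF * tr hF 0 1 * sw hF) =
        sw hF * (tr hF 0 1 * (sw hF * sw hF) * tr hF 0 1) * sw hF := by group
      _ = 1 := by
        rw [sw_mul_self, mul_one, tr_mul]
        simp [CharTwo.add_self_eq_zero, tr_zero, sw_mul_self]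
  have hz : prodRep hF p * (v1 hF * τ * v1 hF * τ⁻¹) = τ * prodRep hF p * τ⁻¹ := by
    rw [prodRep]
    calc tr hF 0 p * v1 hF * (v1 hF * τ * v1 hF * τ⁻¹)
        = tr hF 0 p * (v1 hF * v1 hF) * τ * v1 hF * τ⁻¹ := by group
      _ = τ * tr hF 0 p * v1 hF * τ⁻¹ := by rw [hv, mul_one, hcomm]
      _ = _ := by group
  refine ⟨v1 hF * τ * v1 hF * τ⁻¹, isConj_prodRep_of_tc hm hF hp ?_, ?_, fun hmem => ?_⟩
  · rw [← hr2, ← hf]
    exact tc_twist hF x y
  · rw [hz]; exact isConj_iff.2 ⟨τ, rfl⟩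
  · set T := Subgroup.centralizer ({prodRep hF p} : Set (Cfsg.Sz F m)) with hTdef
    have hT : IsTor T := (trType_or_isTor hm hF hc1).resolve_left hct
    have hcT : prodRep hF p ∈ T := Subgroup.mem_centralizer_singleton_iff.2 rfl
    have hτN : τ ∈ Subgroup.normalizer (T : Set (Cfsg.Sz F m)) :=
      hT.mem_normalizer hm hF hcT hc1 (hz ▸ T.mul_mem hcT hmem)
    have hu : orderOf (tr hF 0 p : Cfsg.Sz F m) = 2 := orderOf_center_tr hF hp
    have hinv : tr hF 0 p * prodRep hF p * (tr hF 0 p)⁻¹ = (prodRep hF p)⁻¹ := by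
      rw [prodRep, _root_.mul_inv_rev, inv_of_order_two hu,
        inv_eq_of_mul_eq_one_right hv, ← mul_assoc (tr hF 0 p), mul_self_of_order_two hu, one_mul]
    have huN : (tr hF 0 p : Cfsg.Sz F m) ∈ Subgroup.normalizer (T : Set (Cfsg.Sz F m)) :=
      hT.mem_normalizer hm hF hcT hc1 (hinv ▸ T.inv_mem hcT)
    have hττ : τ * τ = tr hF 0 (theta F m x * x) := by
      rw [hτ, tr_mul, CharTwo.add_self_eq_zero, CharTwo.add_self_eq_zero, zero_add, theta_def]
    have hmem2 : (tr hF 0 (p + theta F m x * x) : Cfsg.Sz F m) ∈ T := by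
      have hN : (tr hF 0 p * (τ * τ) : Cfsg.Sz F m) ∈ Subgroup.normalizer (T : Set (Cfsg.Sz F m)) :=
        mul_mem huN (mul_mem hτN hτN)
      have e : (tr hF 0 p * (τ * τ) : Cfsg.Sz F m) = tr hF 0 (p + theta F m x * x) := by
        rw [hττ, tr_mul]; simp
      rw [Subgroup.mem_centralizer_singleton_iff]
      have hxx : theta F m x * x ≠ 0 := mul_ne_zero ((map_ne_zero _).2 hx0) hx0
      have ht : orderOf (τ * τ) = 2 := by rw [hττ]; exact orderOf_center_tr hF hxx
      have h3 := hT.inverted hm hF (mul_mem hτN hτN) ht (T.inv_mem hcT)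
      have h4 := hT.inverted hm hF huN hu hcT
      rw [inv_inv] at h3
      set c : Cfsg.Sz F m := prodRep hF p
      rw [← e]
      set t := τ * τ
      set u : Cfsg.Sz F m := tr hF 0 p
      have h3' : t * c = c⁻¹ * t := by
        conv_lhs => rw [← h3]
        rw [← mul_assoc t (t * c⁻¹) t, ← mul_assoc t t c⁻¹, mul_self_of_order_two ht, one_mul]
      have h4' : u * c⁻¹ = c * u := by
        rw [← h4, ← mul_assoc, ← mul_assoc, mul_self_of_order_two hu, one_mul]
      calc u * t * c = u * (c⁻¹ * t) := by rw [mul_assoc, h3']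
        _ = c * u * t := by rw [← mul_assoc, h4']
        _ = c * (u * t) := mul_assoc _ _ _
    have hne : p + theta F m x * x ≠ 0 := fun e => hx (CharTwo.add_eq_zero.1 e).symm
    exact (trType_of_order hm hF (Or.inl (orderOf_center_tr hF hne))).notMem_tor hm hF hT hmem2

/-- A non-identity element of odd order has a conjugate outside its torus with the product again
conjugate to it. -/
theorem exists_twist {c : Cfsg.Sz F m} (hc1 : c ≠ 1) (hc : ¬ IsTrType hF c) :
    ∃ c' : Cfsg.Sz F m, IsConj c c' ∧ IsConj c (c * c') ∧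
      c' ∉ Subgroup.centralizer ({c} : Set (Cfsg.Sz F m)) := by
  obtain ⟨h, p, hp, he⟩ := exists_conj_prodRep hm hF hc1 hc
  obtain ⟨c', h1, h2, h3⟩ := exists_twist_prodRep hm hF hp
  have h0 : IsConj c (prodRep hF p) := isConj_iff.2 ⟨h, he⟩
  refine ⟨h⁻¹ * c' * h⁻¹⁻¹, (h0.trans h1).trans (isConj_iff.2 ⟨h⁻¹, rfl⟩),
    (h0.trans h2).trans (isConj_iff.2 ⟨h⁻¹, ?_⟩), fun hmem => h3 ?_⟩
  · rw [← he]; group
  · rw [Subgroup.mem_centralizer_singleton_iff] at hmem ⊢
    rw [← he]
    calc c' * (h * c * h⁻¹) = h * (h⁻¹ * c' * h⁻¹⁻¹ * c) * h⁻¹ := by group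
      _ = h * (c * (h⁻¹ * c' * h⁻¹⁻¹)) * h⁻¹ := by rw [hmem]
      _ = _ := by group

end Cfsg.Agent.Suzuki.Binary
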