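import Mathlib

/-!
# Three multiples of an additive subgroup of a field of order `2 ^ n`

For a proper non-trivial additive subgroup `V` there are multiples `t V`, `s V` such that
`V ∩ (t V + s V)` is larger than `V ∩ t V + V ∩ s V`.
-/

set_option autoImplicit false
set_option linter.unusedSectionVars false

namespace Cfsg.Agent.Suzuki.Binary

variable {F : Type*} [Field F] [Fintype F] [CharP F 2]

/-- The witness. -/
def DistFail (V : AddSubgroup F) : Prop :=
  ∃ t s v v₁ v₂ : F, t ≠ 0 ∧ s ≠ 0 ∧ v ∈ V ∧ v₁ ∈ V ∧ v₂ ∈ V ∧ v + t * v₁ = s * v₂ ∧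
    ∀ u ∈ V, ∀ u₁ ∈ V, u = t * u₁ → ∀ w ∈ V, v + u ≠ s * w

/-- A small subgroup has a multiple meeting it and `(1 + t)` times it trivially. -/
theorem exists_small_mult (V : AddSubgroup F) (hq : 2 * Nat.card V ^ 2 ≤ Fintype.card F)
    (hne : V ≠ ⊥) :
    ∃ t : F, t ≠ 0 ∧ 1 + t ≠ 0 ∧ (∀ a ∈ V, ∀ b ∈ V, a = t * b → b = 0) ∧
      ∀ a ∈ V, ∀ b ∈ V, a = (1 + t) * b → b = 0 := by
  classical
  haveI : Fintype V := Fintype.ofFinite _
  set S : Finset V := Finset.univ.erase 0 with hS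
  set bad : Finset F := insert 0 (insert 1
    ((S ×ˢ S).image (fun p => (p.1 : F) / p.2) ∪ (S ×ˢ S).image (fun p => (p.1 : F) / p.2 + 1))) with hbad
  have hV2 : 2 ≤ Nat.card V := by
    obtain ⟨x, hx, hx0⟩ := V.bot_or_exists_ne_zero.resolve_left hne
    rw [Nat.card_eq_fintype_card]
    exact Fintype.one_lt_card_iff.2 ⟨⟨x, hx⟩, 0, fun e => hx0 (congrArg Subtype.val e)⟩
  have hcard : bad.card < Fintype.card F := by
    have hSc : S.card = Nat.card V - 1 := by
      rw [hS, Finset.card_erase_of_mem (Finset.mem_univ _), Finset.card_univ, Nat.card_eq_fintype_card]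
    have h1 : bad.card ≤ 2 * (S.card * S.card) + 2 := by
      refine (Finset.card_insert_le _ _).trans (Nat.succ_le_succ ((Finset.card_insert_le _ _).trans
        (Nat.succ_le_succ ?_)))
      refine (Finset.card_union_le _ _).trans ?_
      rw [two_mul, ← Finset.card_product]
      exact add_le_add Finset.card_image_le Finset.card_image_le
    obtain ⟨d, hd⟩ : ∃ d, Nat.card V = d + 2 := ⟨_, (Nat.sub_add_cancel hV2).symm⟩
    rw [hd] at hSc hq
    rw [hSc] at h1
    calc bad.card ≤ 2 * ((d + 1) * (d + 1)) + 2 := h1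
      _ < 2 * (d + 2) ^ 2 := by nlinarith
      _ ≤ _ := hq
  obtain ⟨t, ht⟩ : ∃ t, t ∉ bad := by
    by_contra hcon
    push Not at hcon
    have := Finset.card_le_card (s := (Finset.univ : Finset F)) (t := bad) fun x _ => hcon x
    rw [Finset.card_univ] at this
    omega
  simp only [hbad, Finset.mem_insert, Finset.mem_union, Finset.mem_image, not_or, not_exists, not_and] at ht
  obtain ⟨ht0, ht1, hA, hB⟩ := ht
  have hS' : ∀ (a : F) (ha : a ∈ V), a ≠ 0 → (⟨a, ha⟩ : V) ∈ S := fun a ha h0 =>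
    Finset.mem_erase.2 ⟨fun e => h0 (congrArg Subtype.val e), Finset.mem_univ _⟩
  have h1t : 1 + t ≠ 0 := fun e => ht1 (CharTwo.add_eq_zero.1 e).symm
  refine ⟨t, ht0, h1t, fun a ha b hb e => ?_, fun a ha b hb e => ?_⟩ <;> by_contra hb0
  · have ha0 : a ≠ 0 := by rw [e]; exact mul_ne_zero ht0 hb0
    refine hA (⟨a, ha⟩, ⟨b, hb⟩) (Finset.mem_product.2 ⟨hS' a ha ha0, hS' b hb hb0⟩) ?_
    show a / b = t
    rw [e, mul_div_cancel_right₀ _ hb0]
  · have ha0 : a ≠ 0 := by rw [e]; exact mul_ne_zero h1t hb0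
    refine hB (⟨a, ha⟩, ⟨b, hb⟩) (Finset.mem_product.2 ⟨hS' a ha ha0, hS' b hb hb0⟩) ?_
    show a / b + 1 = t
    rw [e, mul_div_cancel_right₀ _ hb0]
    linear_combination (CharTwo.two_eq_zero : (2 : F) = 0)

theorem distFail_small (V : AddSubgroup F) (hq : 2 * Nat.card V ^ 2 ≤ Fintype.card F) (hne : V ≠ ⊥) :
    DistFail V := by
  obtain ⟨t, ht0, ht1, hA, hB⟩ := exists_small_mult V hq hne
  obtain ⟨h, hh, hh0⟩ := V.bot_or_exists_ne_zero.resolve_left hne
  refine ⟨t, 1 + t, h, h, h, ht0, ht1, hh, hh, hh, by ring, fun u hu u₁ hu₁ e w hw e' => hh0 ?_⟩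
  have h1 := hA u hu u₁ hu₁ e
  rw [h1, mul_zero] at e
  rw [e, add_zero] at e'
  rw [e', hB h hh w hw e', mul_zero]

/-- A subgroup of order the square root of `|F|`. -/
theorem distFail_sqrt (V : AddSubgroup F) (hq : Nat.card V ^ 2 = Fintype.card F) : DistFail V := by
  classical
  haveI : Fintype V := Fintype.ofFinite _
  have hc : Nat.card V = Fintype.card V := Nat.card_eq_fintype_card
  rw [hc] at hq
  have hV2 : 2 ≤ Fintype.card V := by
    have := Fintype.one_lt_card (α := F)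
    nlinarith
  set S : Finset V := Finset.univ.erase 0 with hS
  set T := (S ×ˢ S).filter fun p => p.1 ≠ p.2 with hT
  set bad : Finset F := insert 0 (insert 1 (T.image fun p => (p.1 : F) / p.2)) with hbad
  have hlt : bad.card < Fintype.card F := by
    have hSc : S.card = Fintype.card V - 1 := by
      rw [hS, Finset.card_erase_of_mem (Finset.mem_univ _), Finset.card_univ]
    have hTc : T.card ≤ S.card * S.card := by
      rw [← Finset.card_product]
      exact Finset.card_filter_le _ _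
    have h1 : bad.card ≤ S.card * S.card + 2 :=
      (Finset.card_insert_le _ _).trans (Nat.succ_le_succ ((Finset.card_insert_le _ _).trans
        (Nat.succ_le_succ (Finset.card_image_le.trans hTc))))
    obtain ⟨d, hd⟩ : ∃ d, Fintype.card V = d + 2 := ⟨_, (Nat.sub_add_cancel hV2).symm⟩
    rw [hd] at hSc hq
    rw [hSc, show d + 2 - 1 = d + 1 by omega] at h1
    nlinarith
  obtain ⟨t, -, ht⟩ := Finset.exists_mem_notMem_of_card_lt_card (s := bad)
    (t := (Finset.univ : Finset F)) (by rwa [Finset.card_univ])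
  simp only [hbad, Finset.mem_insert, Finset.mem_image, not_or, not_exists, not_and] at ht
  obtain ⟨ht0, ht1, hA⟩ := ht
  have hdis : ∀ a ∈ V, ∀ b ∈ V, a = t * b → b = 0 := by
    intro a ha b hb e
    by_contra hb0
    refine hA (⟨a, ha⟩, ⟨b, hb⟩) ?_ (by
      show a / b = t
      rw [e, mul_div_cancel_right₀ _ hb0])
    simp only [hT, hS, Finset.mem_filter, Finset.mem_product, Finset.mem_erase, Finset.mem_univ, and_true,
      ne_eq, Subtype.ext_iff, ZeroMemClass.coe_zero]
    refine ⟨⟨?_, hb0⟩, fun h => ht1 ?_⟩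
    · rw [e]; exact mul_ne_zero ht0 hb0
    · exact mul_right_cancel₀ hb0 (by rw [← e, h, one_mul])
  -- every element is `t * a + t ^ 2 * b`
  have hsurj : Function.Surjective fun p : V × V => t * (p.1 : F) + t ^ 2 * (p.2 : F) := by
    refine ((Fintype.bijective_iff_injective_and_card _).2 ⟨fun p q h => ?_, ?_⟩).2
    · have h' : (p.1 : F) - q.1 = t * ((q.2 : F) - p.2) := mul_left_cancel₀ ht0 (by linear_combination h)
      have h2 := hdis _ (V.sub_mem p.1.2 q.1.2) _ (V.sub_mem q.2.2 p.2.2) h'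
      rw [h2, mul_zero, sub_eq_zero] at h'
      exact Prod.ext (Subtype.ext h') (Subtype.ext (sub_eq_zero.1 h2).symm)
    · rw [Fintype.card_prod, ← pow_two, hq]
  -- `t ^ 2` does not stabilise `V`
  obtain ⟨v, hv, hnv⟩ : ∃ v ∈ V, ∀ w ∈ V, v ≠ t ^ 2 * w := by
    by_contra hcon
    push Not at hcon
    have key : ∀ k : ℕ, ∀ v ∈ V, ∃ w ∈ V, v = t ^ (2 * k) * w := by
      intro k
      induction k with
      | zero => exact fun v hv => ⟨v, hv, by simp⟩
      | succ k ih =>
        intro v hv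
        obtain ⟨w, hw, rfl⟩ := ih v hv
        obtain ⟨w', hw', rfl⟩ := hcon w hw
        exact ⟨w', hw', by ring⟩
    obtain ⟨h, hh, hh0⟩ := V.bot_or_exists_ne_zero.resolve_left (fun e => by
      have h1 : Fintype.card V = 1 := by rw [← hc, e, AddSubgroup.card_bot]
      omega)
    obtain ⟨w, hw, e⟩ := key (Fintype.card F / 2) h hh
    obtain ⟨n, hp, hn⟩ := FiniteField.card F 2
    rw [Nat.two_mul_div_two_of_even (by rw [hn]; exact Nat.even_pow.2 ⟨even_two, n.ne_zero⟩),
      FiniteField.pow_card] at e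
    have := hdis h hh w hw e
    rw [this, mul_zero] at e
    exact hh0 e
  obtain ⟨⟨a, b⟩, hab⟩ := hsurj v
  refine ⟨t, t ^ 2, v, a, b, ht0, pow_ne_zero _ ht0, hv, a.2, b.2, ?_, fun u hu u₁ hu₁ e w hw e' => ?_⟩
  · linear_combination -hab + (t * (a : F)) * (CharTwo.two_eq_zero : (2 : F) = 0)
  · have h1 := hdis u hu u₁ hu₁ e
    rw [h1, mul_zero] at e
    rw [e, add_zero] at e'
    exact hnv w hw e'

theorem distFail_gen {n : ℕ} (hF : Fintype.card F = 2 ^ n) (V : AddSubgroup F) (hne : V ≠ ⊥)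
    (htop : V ≠ ⊤) : DistFail V := by
  classical
  haveI : Fact (Nat.Prime 2) := ⟨Nat.prime_two⟩
  letI : Algebra (ZMod 2) F := ZMod.algebra F 2
  haveI : Module.Finite (ZMod 2) F := Module.Finite.of_finite
  let V' : Submodule (ZMod 2) F := AddSubgroup.toZModSubmodule 2 V
  have hmemV : ∀ x, x ∈ V' ↔ x ∈ V := fun x => Iff.rfl
  have hn : Module.finrank (ZMod 2) F = n := by
    have h := Module.natCard_eq_pow_finrank (K := ZMod 2) (V := F)
    rw [Nat.card_eq_fintype_card, hF, Nat.card_zmod] at h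
    exact (Nat.pow_right_injective le_rfl h).symm
  have hcardsub : ∀ P : Submodule (ZMod 2) F, Nat.card P.toAddSubgroup = 2 ^ Module.finrank (ZMod 2) P :=
    fun P => by
      have h := Module.natCard_eq_pow_finrank (K := ZMod 2) (V := P)
      rwa [Nat.card_zmod] at h
  have hcardV : Nat.card V = 2 ^ Module.finrank (ZMod 2) V' := hcardsub V'
  have small : ∀ d, 2 * d < n → 2 * (2 ^ d) ^ 2 ≤ Fintype.card F := fun d hd => by
    rw [hF, ← pow_mul, ← pow_succ']
    exact Nat.pow_le_pow_right (by norm_num) (by omega)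
  by_cases hk : 2 * Module.finrank (ZMod 2) V' < n
  · exact distFail_small V (by rw [hcardV]; exact small _ hk) hne
  by_cases hk' : 2 * Module.finrank (ZMod 2) V' = n
  · exact distFail_sqrt V (by rw [hcardV, hF, ← pow_mul, mul_comm, hk'])
  -- the orthogonal complement
  let Φ : F ≃ₗ[ZMod 2] Module.Dual (ZMod 2) F :=
    (Algebra.traceForm (ZMod 2) F).toDual (traceForm_nondegenerate (ZMod 2) F)
  have hΦ : ∀ a x : F, Φ a x = Algebra.trace (ZMod 2) F (a * x) := fun a x => rfl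
  have hassoc : ∀ a b x : F, Φ (a * b) x = Φ a (b * x) := fun a b x => by rw [hΦ, hΦ, mul_assoc]
  set V'' : Submodule (ZMod 2) (Module.Dual (ZMod 2) F) := V'.map Φ.toLinearMap with hV''
  set W : Submodule (ZMod 2) F := V''.dualCoannihilator with hW
  have hfr : Module.finrank (ZMod 2) V' + Module.finrank (ZMod 2) W = n := by
    rw [← hn, ← Subspace.finrank_add_finrank_dualCoannihilator_eq V'',
      LinearEquiv.finrank_map_eq Φ V']
  have hWle : 2 * Module.finrank (ZMod 2) W < n := by omega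
  have hann : W.dualAnnihilator = V'' := Subspace.dualCoannihilator_dualAnnihilator_eq
  have hinV : ∀ a : F, (∀ y ∈ W, Φ a y = 0) → a ∈ V := fun a ha => by
    have h : Φ a ∈ V'' := hann ▸ (Submodule.mem_dualAnnihilator _).2 ha
    obtain ⟨b, hb, he⟩ := h
    rw [← Φ.injective he]
    exact hb
  have hkill : ∀ a ∈ V, ∀ y ∈ W, Φ a y = 0 := fun a ha y hy =>
    (Submodule.mem_dualCoannihilator _).1 hy (Φ a) ⟨a, ha, rfl⟩
  have hWne : W.toAddSubgroup ≠ ⊥ := fun e => by
    refine htop (eq_top_iff.2 fun a _ => hinV a fun y hy => ?_)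
    have hy0 : y = 0 := by
      have : y ∈ W.toAddSubgroup := hy
      rwa [e, AddSubgroup.mem_bot] at this
    rw [hy0, map_zero]
  obtain ⟨t, ht0, ht1, hA, hB⟩ := exists_small_mult W.toAddSubgroup
    (by rw [hcardsub W]; exact small _ hWle) hWne
  obtain ⟨w, hw, hw0⟩ := W.toAddSubgroup.bot_or_exists_ne_zero.resolve_left hWne
  have hw' : w ∈ W := hw
  set Wt := W.map (LinearMap.mulLeft (ZMod 2) t) with hWt
  set Ws := W.map (LinearMap.mulLeft (ZMod 2) (1 + t)) with hWs
  have hnot : t * w ∉ W ⊔ (Wt ⊓ Ws) := by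
    intro h
    obtain ⟨a, ha, r, ⟨⟨b, hb, hbr⟩, ⟨c, hc, hcr⟩⟩, he⟩ := Submodule.mem_sup.1 h
    simp only [LinearMap.mulLeft_apply] at hbr hcr
    have ha' : a ∈ W.toAddSubgroup := ha
    have hsub : w - b ∈ W.toAddSubgroup := W.toAddSubgroup.sub_mem hw hb
    have h1 := hA a ha' (w - b) hsub (by linear_combination he + hbr)
    rw [sub_eq_zero] at h1
    subst h1
    have h2 : w = (1 + t) * (w + c) := by
      linear_combination hbr - hcr - t * w * (CharTwo.two_eq_zero : (2 : F) = 0)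
    have h3 := hB w hw (w + c) (W.toAddSubgroup.add_mem hw hc) h2
    rw [h3, mul_zero] at h2
    exact hw0 h2
  obtain ⟨f, hf, hfle⟩ := Submodule.exists_le_ker_of_notMem hnot
  have hker : ∀ y ∈ W ⊔ (Wt ⊓ Ws), f y = 0 := fun y hy => hfle hy
  have hsum : f ∈ Wt.dualAnnihilator ⊔ Ws.dualAnnihilator := by
    rw [← Subspace.dualAnnihilator_inf_eq, Submodule.mem_dualAnnihilator]
    exact fun y hy => hker y (Submodule.mem_sup_right hy)
  obtain ⟨f₁, hf₁, f₂, hf₂, hf12⟩ := Submodule.mem_sup.1 hsum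
  rw [Submodule.mem_dualAnnihilator] at hf₁ hf₂
  obtain ⟨a₁, rfl⟩ := Φ.surjective f₁
  obtain ⟨a₂, rfl⟩ := Φ.surjective f₂
  refine ⟨t⁻¹, (1 + t)⁻¹, a₁ + a₂, a₁ * t, a₂ * (1 + t), inv_ne_zero ht0, inv_ne_zero ht1, ?_, ?_, ?_, ?_,
    fun u hu u₁ hu₁ e w₀ hw₀ e' => hf ?_⟩
  · refine hinV _ fun y hy => ?_
    rw [map_add, hf12]
    exact hker y (Submodule.mem_sup_left hy)
  · exact hinV _ fun y hy => by rw [hassoc]; exact hf₁ _ ⟨y, hy, rfl⟩
  · exact hinV _ fun y hy => by rw [hassoc]; exact hf₂ _ ⟨y, hy, rfl⟩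
  · field_simp
    linear_combination a₁ * (CharTwo.two_eq_zero : (2 : F) = 0)
  · rw [← hf12, ← map_add]
    have h1 : Φ u (t * w) = 0 := by
      rw [← hassoc, e, show t⁻¹ * u₁ * t = u₁ by field_simp]
      exact hkill u₁ hu₁ w hw'
    have hav : a₁ + a₂ ∈ V := hinV _ fun y hy => by
      rw [map_add, hf12]
      exact hker y (Submodule.mem_sup_left hy)
    have h2 : Φ (a₁ + a₂ + u) w = 0 := hkill _ (V.add_mem hav hu) w hw'
    have h3 : Φ (a₁ + a₂ + u) ((1 + t) * w) = 0 := by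
      rw [← hassoc, e', show (1 + t)⁻¹ * w₀ * (1 + t) = w₀ by field_simp]
      exact hkill w₀ hw₀ w hw'
    rw [add_mul, one_mul, map_add, h2, zero_add, map_add, LinearMap.add_apply, h1, add_zero] at h3
    exact h3

theorem distFail {m : ℕ} (hF : Fintype.card F = 2 ^ (2 * m + 1)) (V : AddSubgroup F) (hne : V ≠ ⊥)
    (htop : V ≠ ⊤) : DistFail V := distFail_gen hF V hne htop

end Cfsg.Agent.Suzuki.Binary
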