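import Mathlib

/-!
# Binary coset actions: a criterion for failure, and a sufficient condition
-/

set_option autoImplicit false
set_option linter.unusedSectionVars false

namespace Cfsg.Agent.Suzuki.Binary

open MulAction

/-- The action on the cosets of `H` is binary. -/
def BinAct (G : Type*) [Group G] (H : Subgroup G) : Prop :=
  ∀ (n : ℕ) (I J : Fin n → G ⧸ H), 2 ≤ n →
    (∀ i j : Fin n, i ≠ j → ∃ g : G, g • I i = J i ∧ g • I j = J j) → ∃ g : G, ∀ i, g • I i = J i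

/-- `A` is a conjugate of `H`. -/
def IsConjOf {G : Type*} [Group G] (H A : Subgroup G) : Prop :=
  ∃ g : G, H.map (MulAut.conj g).toMonoidHom = A

/-- A witness against binarity. -/
def Bad {G : Type*} [Group G] (H : Subgroup G) : Prop :=
  ∃ A B C : Subgroup G, IsConjOf H A ∧ IsConjOf H B ∧ IsConjOf H C ∧
    ∃ x ∈ A, ∃ y ∈ B, x⁻¹ * y ∈ C ∧ ∀ g ∈ A, g ∈ B → x⁻¹ * g ∉ C

variable {G : Type*} [Group G]

theorem mem_conj_iff {H : Subgroup G} {g x : G} :
    x ∈ H.map (MulAut.conj g).toMonoidHom ↔ g⁻¹ * x * g ∈ H := by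
  constructor
  · rintro ⟨h, hh, rfl⟩
    show g⁻¹ * (g * h * g⁻¹) * g ∈ H
    rwa [show g⁻¹ * (g * h * g⁻¹) * g = h by group]
  · exact fun h => ⟨_, h, show g * (g⁻¹ * x * g) * g⁻¹ = x by group⟩

theorem smul_mk_eq_iff {H : Subgroup G} {g x y : G} :
    x • (g : G ⧸ H) = y • (g : G ⧸ H) ↔ x⁻¹ * y ∈ H.map (MulAut.conj g).toMonoidHom := by
  rw [mem_conj_iff]
  show ((x * g : G) : G ⧸ H) = ((y * g : G) : G ⧸ H) ↔ _
  rw [QuotientGroup.eq, mul_inv_rev, show g⁻¹ * x⁻¹ * (y * g) = g⁻¹ * (x⁻¹ * y) * g by group]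

theorem mem_stab_iff {H : Subgroup G} {g x : G} :
    x ∈ H.map (MulAut.conj g).toMonoidHom ↔ x • (g : G ⧸ H) = (g : G ⧸ H) := by
  conv_rhs => rw [eq_comm, ← one_smul G (g : G ⧸ H), smul_smul, mul_one, smul_mk_eq_iff, inv_one, one_mul]

theorem not_binAct {H : Subgroup G} (h : Bad H) : ¬ BinAct G H := by
  obtain ⟨A, B, C, ⟨a, rfl⟩, ⟨b, rfl⟩, ⟨c, rfl⟩, x, hx, y, hy, hxy, hg⟩ := h
  intro hb
  obtain ⟨g, hg'⟩ := hb 3 ![(a : G ⧸ H), (b : G ⧸ H), (c : G ⧸ H)]
      ![(a : G ⧸ H), (b : G ⧸ H), x • (c : G ⧸ H)] (by norm_num) (by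
    have h01 : ∃ g : G, g • (a : G ⧸ H) = a ∧ g • (b : G ⧸ H) = b :=
      ⟨1, one_smul _ _, one_smul _ _⟩
    have h02 : ∃ g : G, g • (a : G ⧸ H) = a ∧ g • (c : G ⧸ H) = x • (c : G ⧸ H) :=
      ⟨x, mem_stab_iff.1 hx, rfl⟩
    have h12 : ∃ g : G, g • (b : G ⧸ H) = b ∧ g • (c : G ⧸ H) = x • (c : G ⧸ H) :=
      ⟨y, mem_stab_iff.1 hy, (smul_mk_eq_iff.2 hxy).symm⟩
    have h10 := h01.imp fun _ h => h.symm
    have h20 := h02.imp fun _ h => h.symm
    have h21 := h12.imp fun _ h => h.symm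
    intro i j hij
    fin_cases i <;> fin_cases j <;>
      first
        | exact absurd rfl hij
        | exact h01
        | exact h02
        | exact h12
        | exact h10
        | exact h20
        | exact h21)
  exact hg g (mem_stab_iff.2 (hg' 0)) (mem_stab_iff.2 (hg' 1)) (smul_mk_eq_iff.1 (hg' 2).symm)

/-- A group of exponent two no two of whose conjugates have commuting non-identity elements gives
a binary action. -/
theorem binAct_of_rigid {H : Subgroup G} (hsq : ∀ x ∈ H, x * x = 1)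
    (hrig : ∀ g : G, ∀ x ∈ H, ∀ y ∈ H.map (MulAut.conj g).toMonoidHom, x ≠ 1 → y ≠ 1 →
      x * y = y * x → H.map (MulAut.conj g).toMonoidHom = H) : BinAct G H := by
  have hsq' : ∀ a : G, ∀ x ∈ H.map (MulAut.conj a).toMonoidHom, x * x = 1 := by
    rintro a _ ⟨h, hh, rfl⟩
    rw [← map_mul, hsq h hh, map_one]
  have hrig' : ∀ a b : G, ∀ x ∈ H.map (MulAut.conj a).toMonoidHom,
      ∀ y ∈ H.map (MulAut.conj b).toMonoidHom, x ≠ 1 → y ≠ 1 → x * y = y * x →
      H.map (MulAut.conj a).toMonoidHom = H.map (MulAut.conj b).toMonoidHom := by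
    intro a b x hx y hy hx1 hy1 hc
    have e := hrig (a⁻¹ * b) (a⁻¹ * x * a) (mem_conj_iff.1 hx) (a⁻¹ * y * a) (mem_conj_iff.2 (by
      rw [show (a⁻¹ * b)⁻¹ * (a⁻¹ * y * a) * (a⁻¹ * b) = b⁻¹ * y * b by group]
      exact mem_conj_iff.1 hy))
      (fun e => hx1 (by rw [show x = a * (a⁻¹ * x * a) * a⁻¹ by group, e]; group))
      (fun e => hy1 (by rw [show y = a * (a⁻¹ * y * a) * a⁻¹ by group, e]; group))
      (by
        calc a⁻¹ * x * a * (a⁻¹ * y * a) = a⁻¹ * (x * y) * a := by group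
          _ = a⁻¹ * (y * x) * a := by rw [hc]
          _ = _ := by group)
    ext z
    rw [mem_conj_iff, mem_conj_iff]
    constructor
    · intro hz
      rw [← e, mem_conj_iff] at hz
      rwa [show b⁻¹ * z * b = (a⁻¹ * b)⁻¹ * (a⁻¹ * z * a) * (a⁻¹ * b) by group]
    · intro hz
      rw [← e, mem_conj_iff]
      rwa [show (a⁻¹ * b)⁻¹ * (a⁻¹ * z * a) * (a⁻¹ * b) = b⁻¹ * z * b by group]
  intro n I J hn hpair
  classical
  have hrep : ∀ i, ∃ g : G, (g : G ⧸ H) = I i := fun i => QuotientGroup.mk_surjective (I i)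
  choose r hr using hrep
  let S : Fin n → Subgroup G := fun i => H.map (MulAut.conj (r i)).toMonoidHom
  have hfix : ∀ i x, x ∈ S i → x • I i = I i := fun i x hx => by
    rw [← hr i]; exact mem_stab_iff.1 hx
  have hmem : ∀ i x, x • I i = I i → x ∈ S i := fun i x hx => by
    rw [← hr i] at hx; exact mem_stab_iff.2 hx
  by_cases hall : ∀ i j, S i = S j
  · have i₀ : Fin n := ⟨0, by omega⟩
    have i₁ : Fin n := ⟨1, by omega⟩
    obtain ⟨g₀, hg₀⟩ : ∃ g : G, g • I i₀ = J i₀ := by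
      by_cases h : i₀ = ⟨0, by omega⟩
      · subst h
        obtain ⟨g, hg, -⟩ := hpair ⟨0, by omega⟩ ⟨1, by omega⟩ (by simp [Fin.ext_iff])
        exact ⟨g, hg⟩
      · obtain ⟨g, hg, -⟩ := hpair i₀ ⟨0, by omega⟩ h
        exact ⟨g, hg⟩
    refine ⟨g₀, fun k => ?_⟩
    by_cases hk : i₀ = k
    · subst hk; exact hg₀
    obtain ⟨g, h1, h2⟩ := hpair i₀ k hk
    have hd : g₀⁻¹ * g ∈ S k := by
      rw [← hall i₀ k]
      exact hmem _ _ (by rw [mul_smul, h1, ← hg₀, inv_smul_smul])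
    rw [← h2]
    conv_lhs => rw [← hfix k _ hd]
    rw [smul_smul, mul_inv_cancel_left]
  · push Not at hall
    obtain ⟨i, j, hij⟩ := hall
    have hne : i ≠ j := fun e => hij (by rw [e])
    obtain ⟨g, hgi, hgj⟩ := hpair i j hne
    refine ⟨g, fun k => ?_⟩
    by_cases hki : i = k
    · subst hki; exact hgi
    by_cases hkj : j = k
    · subst hkj; exact hgj
    obtain ⟨a, ha1, ha2⟩ := hpair i k hki
    obtain ⟨b, hb1, hb2⟩ := hpair j k hkj
    have hA : g⁻¹ * a ∈ S i := hmem _ _ (by rw [mul_smul, ha1, ← hgi, inv_smul_smul])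
    have hB : g⁻¹ * b ∈ S j := hmem _ _ (by rw [mul_smul, hb1, ← hgj, inv_smul_smul])
    set u := g⁻¹ * a with hu
    set v := g⁻¹ * b with hv
    have hC : u⁻¹ * v ∈ S k := hmem _ _ (by
      rw [mul_smul, inv_smul_eq_iff, hu, hv, mul_smul, mul_smul, ha2, hb2])
    have hu2 := hsq' _ u hA
    have hv2 := hsq' _ v hB
    have hcomm : u * v = v * u := by
      have h3 := hsq' _ _ hC
      rw [inv_eq_of_mul_eq_one_right hu2] at h3
      calc u * v = (u * v)⁻¹ := (inv_eq_of_mul_eq_one_right h3).symm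
        _ = _ := by rw [mul_inv_rev, inv_eq_of_mul_eq_one_right hu2, inv_eq_of_mul_eq_one_right hv2]
    have hfixk : u • I k = I k := by
      by_cases hu1 : u = 1
      · rw [hu1, one_smul]
      by_cases hv1 : v = 1
      · refine hfix k u ?_
        rw [hv1, mul_one, inv_eq_of_mul_eq_one_right hu2] at hC
        exact hC
      exact absurd (hrig' _ _ u hA v hB hu1 hv1 hcomm) hij
    rw [← ha2]
    conv_lhs => rw [← hfixk]
    rw [smul_smul, hu, mul_inv_cancel_left]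

theorem binAct_bot : BinAct G (⊥ : Subgroup G) := by
  refine binAct_of_rigid (fun x hx => ?_) (fun g x hx => ?_)
  · rw [Subgroup.mem_bot] at hx; simp [hx]
  · intro y hy hx1
    exact absurd (Subgroup.mem_bot.1 hx) hx1

theorem Bad.map {G' : Type*} [Group G'] (e : G ≃* G') {H : Subgroup G} (h : Bad H) :
    Bad (H.map e.toMonoidHom) := by
  have key : ∀ A, IsConjOf H A → IsConjOf (H.map e.toMonoidHom) (A.map e.toMonoidHom) := by
    rintro _ ⟨g, rfl⟩
    refine ⟨e g, ?_⟩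
    rw [Subgroup.map_map, Subgroup.map_map]
    congr 1
    ext z
    simp
  obtain ⟨A, B, C, hA, hB, hC, x, hx, y, hy, hxy, hg⟩ := h
  refine ⟨_, _, _, key A hA, key B hB, key C hC, e x, Subgroup.mem_map_of_mem _ hx,
    e y, Subgroup.mem_map_of_mem _ hy, ⟨_, hxy, by simp⟩, ?_⟩
  rintro g' ⟨g, hgA, rfl⟩ ⟨g₂, hgB, he⟩ ⟨z, hz, hze⟩
  have h2 : g₂ = g := e.injective he
  subst h2
  refine hg g₂ hgA hgB ?_
  have : z = x⁻¹ * g₂ := e.injective (by simpa using hze)
  exact this ▸ hz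

end Cfsg.Agent.Suzuki.Binary
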