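import Cfsg.Agent.Lib.Suzuki.Binary.OddElements
import Cfsg.Agent.Lib.Suzuki.LieEquiv

/-!
# The binary coset actions of the Suzuki groups
-/

set_option autoImplicit false
set_option linter.unusedSectionVars false

namespace Cfsg.Agent.Suzuki.Binary

open Matrix MulAction Cfsg.Agent.Suzuki

variable {F : Type*} [Field F] [Fintype F] [CharP F 2] {m : ℕ}
variable (hm : 1 ≤ m) (hF : Fintype.card F = 2 ^ (2 * m + 1))

include hm hF

theorem isConjOf_range_bad {H : Subgroup (Cfsg.Sz F m)} (hne : H ≠ ⊤) {K : Type} [Field K] [Fintype K]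
    [CharP K 2] {k : ℕ} (hk : 1 ≤ k) (hK : Fintype.card K = 2 ^ (2 * k + 1))
    (hdiv : 2 * k + 1 ∣ 2 * m + 1) (φ : K →+* F) (g : Cfsg.Sz F m)
    (hg : H.map (MulAut.conj g).toMonoidHom = (subfieldHom hm hF hk hK hdiv φ).range) : Bad H := by
  refine Bad.of_conj ⟨g, hg⟩ (bad_subfield hm hF hk hK hdiv φ ?_)
  rw [hK, hF]
  refine Nat.pow_lt_pow_right one_lt_two ?_
  rcases Nat.lt_or_ge k m with hlt | hge
  · omega
  exfalso
  have hkm : k = m := le_antisymm (by have := Nat.le_of_dvd (by omega) hdiv; omega) hge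
  subst hkm
  refine hne (Subgroup.eq_top_of_card_eq H ?_)
  rw [← Subgroup.card_map_of_injective (K := H) (f := (MulAut.conj g).toMonoidHom) (MulAut.conj g).injective]
  show Nat.card (H.map (MulAut.conj g).toMonoidHom) = _
  rw [hg, ← Nat.card_congr (MonoidHom.ofInjective (subfieldHom_injective hm hF hk hK hdiv φ)).toEquiv,
    card_eq hk hK, card_eq hm hF, hK, hF]

/-- Non-identity elements are of translation type or not, uniformly under conjugation. -/
theorem trType_conj_iff (g x : Cfsg.Sz F m) : IsTrType hF (g * x * g⁻¹) ↔ IsTrType hF x := by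
  constructor <;> rintro ⟨h, a, b, hab, he⟩
  · exact ⟨h * g, a, b, hab, by rw [← he]; group⟩
  · exact ⟨h * g⁻¹, a, b, hab, by rw [← he]; group⟩

theorem no_trType_of_no_involution {H : Subgroup (Cfsg.Sz F m)} (h : ∀ x ∈ H, orderOf x ≠ 2) :
    ∀ x ∈ H, ¬ IsTrType hF x := fun x hx ht => by
  rcases ht.order_cases hm hF with e | e
  · exact h x hx e
  · exact h (x ^ 2) (H.pow_mem hx 2) (by rw [orderOf_pow' _ two_ne_zero, e]; rfl)

theorem bad_of_fixed_infty {H : Subgroup (Cfsg.Sz F m)}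
    (hfix : ∀ x ∈ H, x • infty (F := F) m = infty m) {s : Fˣ} (hs : s ≠ 1) (hsH : tor hF s ∈ H) :
    Bad H := by
  by_cases hinv : ∃ i ∈ H, orderOf i = 2
  · obtain ⟨i, hi, hio⟩ := hinv
    exact bad_borel hm hF hfix hi hio hs hsH
  push Not at hinv
  refine bad_in_torus hm hF (isTor_torusSubgroup hm hF) (fun d hd => ?_) fun e => hs ?_
  · obtain ⟨a, b, r, hdr⟩ := exists_tr_to hm hF (hfix d hd)
    obtain ⟨A, B, hAB⟩ : ∃ A B, tor hF s * d * (tor hF s)⁻¹ * d⁻¹ = (tr hF A B : Cfsg.Sz F m) := by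
      rw [hdr]
      refine ⟨(s : F) ^ 2 ^ (m + 1) * a + a, (s : F) ^ 2 ^ (m + 1) * (s : F) ^ 2 * b +
        (b + a ^ 2 ^ (m + 1) * a) + ((s : F) ^ 2 ^ (m + 1) * a) ^ 2 ^ (m + 1) * a, ?_⟩
      rw [show tor hF s * (tr hF a b * tor hF r) * (tor hF s)⁻¹ * (tr hF a b * tor hF r)⁻¹ =
        (tor hF s * tr hF a b * (tor hF s)⁻¹) *
          (tor hF s * tor hF r * (tor hF s)⁻¹ * (tor hF r)⁻¹) * (tr hF a b)⁻¹ by group,
        ← tor_mul, mul_comm s r, tor_mul, mul_inv_cancel_right, mul_inv_cancel, mul_one, conj_tr, tr_inv,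
        tr_mul]
    have hmem : (tr hF A B : Cfsg.Sz F m) ∈ H :=
      hAB ▸ H.mul_mem (H.mul_mem (H.mul_mem hsH hd) (H.inv_mem hsH)) (H.inv_mem hd)
    have h1 : A = 0 ∧ B = 0 := by
      by_contra hc
      refine no_trType_of_no_involution hm hF hinv _ hmem ⟨1, A, B, ?_, by group⟩
      by_contra h'
      push Not at h'
      exact hc h'
    rw [h1.1, h1.2, tr_zero, mul_inv_eq_one, mul_inv_eq_iff_eq_mul] at hAB
    exact (mem_torusSubgroup hF).2 (tor_centralizer hm hF hs hAB.symm)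
  · rw [e, Subgroup.mem_bot] at hsH
    exact tor_injective hF (hsH.trans (tor_one hF).symm)

/-- Every other subgroup gives an action that is not binary. -/
theorem bad_of_not_exceptional {H : Subgroup (Cfsg.Sz F m)} (hne : H ≠ ⊥) (hne' : H ≠ ⊤)
    (hz : ¬ IsConjOf H (zc hF)) : Bad H := by
  haveI : Fact (Nat.Prime 2) := ⟨Nat.prime_two⟩
  by_cases hall : ∀ x ∈ H, x ≠ 1 → IsTrType hF x
  · have hp : IsPGroup 2 H := by
      intro x
      refine ⟨2, Subtype.ext ?_⟩
      by_cases h1 : (x : Cfsg.Sz F m) = 1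
      · simp [h1]
      · simpa using (hall _ x.2 h1).pow_four hm hF
    obtain ⟨P, hP⟩ := hp.exists_le_sylow
    obtain ⟨P₀, hP₀⟩ := exists_sylow hm hF
    obtain ⟨g, hg⟩ := MulAction.exists_smul_eq (Cfsg.Sz F m) P P₀
    refine Bad.of_conj ⟨g, rfl⟩ ?_
    have hle : H.map (MulAut.conj g).toMonoidHom ≤ U hF := by
      rintro _ ⟨x, hx, rfl⟩
      rw [← hP₀, ← hg, Sylow.coe_subgroup_smul]
      exact Subgroup.smul_mem_pointwise_smul x (MulAut.conj g) _ (hP hx)
    by_cases h4 : ∃ a b, a ≠ 0 ∧ tr hF a b ∈ H.map (MulAut.conj g).toMonoidHom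
    · obtain ⟨a, b, ha, hab⟩ := h4
      exact bad_order_four hm hF hle ha hab
    push Not at h4
    refine bad_elementary hm hF (fun x hx => ?_) ?_ fun e => hz ⟨g, e⟩
    · obtain ⟨a, b, rfl⟩ := hle hx
      have ha : a = 0 := by
        by_contra ha
        exact h4 a b ha hx
      exact ⟨b, by rw [ha]⟩
    · rwa [ne_eq, Subgroup.map_eq_bot_iff_of_injective _ (MulAut.conj g).injective]
  push Not at hall
  obtain ⟨c, hc, hc1, hct⟩ := hall
  rcases subgroup_shape hm hF H with ⟨p, hp⟩ | ⟨T, hT, hle⟩ |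
    ⟨K, iK1, iK2, iK3, k, hk, hK, hdiv, φ, g, hg⟩
  · obtain ⟨g, hg⟩ := exists_to_infty hF p
    have hfix₁ : ∀ x ∈ H.map (MulAut.conj g⁻¹).toMonoidHom, x • infty (F := F) m = infty m := by
      have e := fixes_of_map_conj hp g⁻¹
      rwa [show g⁻¹ • p = infty (F := F) m by rw [← hg, inv_smul_smul]] at e
    obtain ⟨a, b, s, hs⟩ := exists_tr_to hm hF (hfix₁ _ ⟨c, hc, rfl⟩)
    have hs1 : s ≠ 1 := by
      rintro rfl
      rw [tor_one, mul_one] at hs
      refine hct ((trType_conj_iff hm hF g⁻¹ c).1 ⟨1, a, b, ?_, ?_⟩)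
      · by_contra h'
        push Not at h'
        rw [h'.1, h'.2, tr_zero] at hs
        exact hc1 ((MulAut.conj g⁻¹).injective (hs.trans (map_one _).symm))
      · rw [one_mul, inv_one, mul_one]; exact hs
    obtain ⟨u, v, huv⟩ := exists_conj_tor hF a b hs1
    refine Bad.of_conj ⟨(tr hF u v)⁻¹ * g⁻¹, rfl⟩ (bad_of_fixed_infty hm hF ?_ hs1 ⟨c, hc, ?_⟩)
    · rintro _ ⟨x, hx, rfl⟩
      show ((tr hF u v)⁻¹ * g⁻¹ * x * ((tr hF u v)⁻¹ * g⁻¹)⁻¹) • infty (F := F) m = infty m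
      rw [show (tr hF u v)⁻¹ * g⁻¹ * x * ((tr hF u v)⁻¹ * g⁻¹)⁻¹ =
        (tr hF u v)⁻¹ * (g⁻¹ * x * g⁻¹⁻¹) * tr hF u v by group, mul_smul, mul_smul, tr_smul_infty]
      rw [show (g⁻¹ * x * g⁻¹⁻¹) • infty (F := F) m = infty m from hfix₁ _ ⟨x, hx, rfl⟩, inv_smul_eq_iff,
        tr_smul_infty]
    · show (tr hF u v)⁻¹ * g⁻¹ * c * ((tr hF u v)⁻¹ * g⁻¹)⁻¹ = tor hF s
      rw [show (tr hF u v)⁻¹ * g⁻¹ * c * ((tr hF u v)⁻¹ * g⁻¹)⁻¹ =
        (tr hF u v)⁻¹ * (g⁻¹ * c * g⁻¹⁻¹) * tr hF u v by group,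
        show g⁻¹ * c * g⁻¹⁻¹ = tr hF a b * tor hF s from hs, ← huv]
      group
  · have hcT : c ∈ T := by
      by_contra h
      exact hct (hT.trType_of_notMem hm hF (hle hc) h)
    by_cases hinv : ∃ i ∈ H, orderOf i = 2
    · obtain ⟨i, hi, hio⟩ := hinv
      exact bad_normalizer hm hF hT hle hc hcT hc1 hi hio
    push Not at hinv
    refine bad_in_torus hm hF hT (fun x hx => ?_) hne
    by_contra h
    exact no_trType_of_no_involution hm hF hinv x hx (hT.trType_of_notMem hm hF (hle hx) h)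
  · exact isConjOf_range_bad hm hF hne' hk hK hdiv φ g hg

theorem binAct_zc : BinAct (Cfsg.Sz F m) (zc hF) := by
  refine binAct_of_rigid ?_ ?_
  · rintro _ ⟨b, rfl⟩
    rw [tr_pair_mul hF, CharTwo.add_self_eq_zero, tr_zero]
  rintro g _ ⟨b, rfl⟩ _ ⟨_, ⟨d, rfl⟩, rfl⟩ hx hy hcomm
  have hb : b ≠ 0 := fun e => hx (by rw [e, tr_zero])
  have hd : d ≠ 0 := fun e => hy (by rw [e, tr_zero, map_one])
  obtain ⟨a', b', h1⟩ := tr_centralizer hm hF (a := 0) (Or.inr hb) hcomm.symm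
  obtain ⟨c', d', s, rfl, -, -⟩ := exists_of_conj_tr hm hF (Or.inr hd) (x := g) h1
  ext z
  constructor
  · rintro ⟨_, ⟨e, rfl⟩, rfl⟩
    simp only [MulEquiv.coe_toMonoidHom, MulAut.conj_apply, conj_mul_tr]
    exact ⟨_, by simp; rfl⟩
  · rintro ⟨e, rfl⟩
    set κ := (s : F) ^ 2 ^ (m + 1) * (s : F) ^ 2 with hκ
    have hκ0 : κ ≠ 0 := mul_ne_zero (pow_ne_zero _ s.ne_zero) (pow_ne_zero _ s.ne_zero)
    refine ⟨_, ⟨e / κ, rfl⟩, ?_⟩
    simp only [MulEquiv.coe_toMonoidHom, MulAut.conj_apply, conj_mul_tr]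
    rw [← hκ, mul_div_cancel₀ _ hκ0]
    simp

omit hm hF in
theorem map_center_subtype {G : Type*} [Group G] (S : Subgroup G) :
    (Subgroup.center S).map S.subtype = S ⊓ Subgroup.centralizer (S : Set G) := by
  ext x
  constructor
  · rintro ⟨y, hy, rfl⟩
    exact ⟨y.2, fun z hz => congrArg Subtype.val (Subgroup.mem_center_iff.1 hy ⟨z, hz⟩)⟩
  · rintro ⟨hx, hc⟩
    exact ⟨⟨x, hx⟩, Subgroup.mem_center_iff.2 fun z => Subtype.ext (hc z z.2), rfl⟩

theorem U_inf_centralizer : U hF ⊓ Subgroup.centralizer ((U hF : Subgroup _) : Set (Cfsg.Sz F m)) = zc hF := by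
  rw [← map_center_subtype]
  ext x
  constructor
  · rintro ⟨y, hy, rfl⟩
    obtain ⟨a, b, rfl⟩ := ut_surjective hF y
    exact ⟨b, by rw [center_eq_zero hm hF hy]; rfl⟩
  · rintro ⟨b, rfl⟩
    exact ⟨ut hF 0 b, (mem_center_iff' hm hF).2 rfl, rfl⟩

/-- The exceptional subgroups are the centres of the Sylow two-subgroups. -/
theorem isConjOf_zc_iff (H : Subgroup (Cfsg.Sz F m)) : IsConjOf H (zc hF) ↔
    ∃ P : Sylow 2 (Cfsg.Sz F m), H = (P : Subgroup (Cfsg.Sz F m)) ⊓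
      Subgroup.centralizer ((P : Subgroup (Cfsg.Sz F m)) : Set (Cfsg.Sz F m)) := by
  haveI : Fact (Nat.Prime 2) := ⟨Nat.prime_two⟩
  obtain ⟨P₀, hP₀⟩ := exists_sylow hm hF
  have key : ∀ (g : Cfsg.Sz F m) (S : Subgroup (Cfsg.Sz F m)),
      (S ⊓ Subgroup.centralizer (S : Set (Cfsg.Sz F m))).map (MulAut.conj g).toMonoidHom =
      S.map (MulAut.conj g).toMonoidHom ⊓
        Subgroup.centralizer ((S.map (MulAut.conj g).toMonoidHom : Subgroup _) : Set (Cfsg.Sz F m)) := by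
    intro g S
    ext x
    constructor
    · rintro ⟨y, ⟨hy, hc⟩, rfl⟩
      refine ⟨⟨y, hy, rfl⟩, ?_⟩
      rintro _ ⟨z, hz, rfl⟩
      rw [← map_mul, ← map_mul, hc z hz]
    · rintro ⟨⟨y, hy, rfl⟩, hc⟩
      exact ⟨y, ⟨hy, fun z hz => (MulAut.conj g).injective (by
        rw [map_mul, map_mul]; exact hc _ ⟨z, hz, rfl⟩)⟩, rfl⟩
  constructor
  · rintro ⟨g, hg⟩
    refine ⟨g⁻¹ • P₀, ?_⟩
    rw [Sylow.coe_subgroup_smul, hP₀]
    show H = (U hF).map (MulAut.conj g⁻¹).toMonoidHom ⊓ Subgroup.centralizer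
      (((U hF).map (MulAut.conj g⁻¹).toMonoidHom : Subgroup _) : Set (Cfsg.Sz F m))
    rw [← key, U_inf_centralizer hm hF, ← hg, Subgroup.map_map]
    refine (H.map_id).symm.trans ?_
    congr 1
    ext z
    simp [mul_assoc]
  · rintro ⟨P, rfl⟩
    obtain ⟨g, hg⟩ := MulAction.exists_smul_eq (Cfsg.Sz F m) P P₀
    refine ⟨g, ?_⟩
    rw [key, ← U_inf_centralizer hm hF, ← hP₀, ← hg, Sylow.coe_subgroup_smul]
    rfl

/-- The classification. -/
theorem binary_iff {G : Type*} [Group G] (e : Cfsg.Sz F m ≃* G) (H : Subgroup G) (hH : H ≠ ⊤) :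
    BinAct G H ↔ H = ⊥ ∨ ∃ P : Sylow 2 G,
      H = (Subgroup.center (P : Subgroup G)).map (P : Subgroup G).subtype := by
  haveI : Fact (Nat.Prime 2) := ⟨Nat.prime_two⟩
  set H₀ := H.comap e.toMonoidHom with hH₀
  have hback : H₀.map e.toMonoidHom = H := Subgroup.map_comap_eq_self_of_surjective e.surjective H
  have hexc : IsConjOf H₀ (zc hF) ↔ ∃ P : Sylow 2 G,
      H = (Subgroup.center (P : Subgroup G)).map (P : Subgroup G).subtype := by
    rw [isConjOf_zc_iff hm hF]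
    constructor
    · rintro ⟨P, hP⟩
      have hinjr : Function.Surjective e.toMonoidHom := e.surjective
      refine ⟨P.mapSurjective hinjr, ?_⟩
      rw [map_center_subtype, ← hback, hP]
      ext x
      constructor
      · rintro ⟨y, ⟨hy, hc⟩, rfl⟩
        refine ⟨⟨y, hy, rfl⟩, ?_⟩
        rintro _ ⟨z, hz, rfl⟩
        rw [← map_mul, ← map_mul, hc z hz]
      · rintro ⟨⟨y, hy, rfl⟩, hc⟩
        exact ⟨y, ⟨hy, fun z hz => e.injective (by
          rw [map_mul, map_mul]; exact hc _ ⟨z, hz, rfl⟩)⟩, rfl⟩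
    · rintro ⟨P, hP⟩
      refine ⟨P.comapOfInjective e.toMonoidHom e.injective (fun x _ => e.surjective x), ?_⟩
      rw [hH₀, hP, map_center_subtype]
      ext x
      constructor
      · rintro ⟨hx, hc⟩
        exact ⟨hx, fun z hz => e.injective (by rw [map_mul, map_mul]; exact hc _ hz)⟩
      · rintro ⟨hx, hc⟩
        refine ⟨hx, fun z hz => ?_⟩
        obtain ⟨w, rfl⟩ := e.surjective z
        show e w * e x = e x * e w
        rw [← map_mul, ← map_mul, hc w hz]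
  constructor
  · intro hb
    by_contra hcon
    push Not at hcon
    refine not_binAct ?_ hb
    rw [← hback]
    refine (bad_of_not_exceptional hm hF (fun h => hcon.1 ?_) (fun h => hH ?_) fun h => ?_).map e
    · rw [← hback, h, Subgroup.map_bot]
    · rw [← hback, h, Subgroup.map_top_of_surjective _ e.surjective]
    · obtain ⟨P, hP⟩ := hexc.1 h
      exact hcon.2 P hP
  · rintro (rfl | hP)
    · exact binAct_bot
    obtain ⟨g, hg⟩ := hexc.2 hP
    have hzc : H = (zc hF).map ((e.toMonoidHom).comp (MulAut.conj g⁻¹).toMonoidHom) := by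
      rw [← hback, ← hg, Subgroup.map_map]
      congr 1
      ext z
      simp [mul_assoc]
    set f : Cfsg.Sz F m ≃* G := (MulAut.conj g⁻¹).trans e with hf
    have hzc' : H = (zc hF).map f.toMonoidHom := hzc
    -- transfer binarity along `f`
    intro n I J hn hpair
    have hiff : ∀ x : Cfsg.Sz F m, x ∈ zc hF ↔ f x ∈ H := fun x => by
      rw [hzc', Subgroup.mem_map]
      exact ⟨fun h => ⟨x, h, rfl⟩, fun ⟨y, hy, he⟩ => f.injective he ▸ hy⟩
    let ι : G ⧸ H → Cfsg.Sz F m ⧸ zc hF := fun p => Quotient.liftOn' p (fun x => ((f.symm x : Cfsg.Sz F m) : _ ⧸ zc hF))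
      fun x y hxy => by
        rw [QuotientGroup.leftRel_apply] at hxy
        rw [QuotientGroup.eq, hiff]
        simpa using hxy
    have hι : Function.Injective ι := by
      intro p q h
      induction p using QuotientGroup.induction_on with
      | H x =>
        induction q using QuotientGroup.induction_on with
        | H y =>
          have h' : ((f.symm x : Cfsg.Sz F m) : _ ⧸ zc hF) = (f.symm y : Cfsg.Sz F m) := h
          rw [QuotientGroup.eq, hiff] at h'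
          rw [QuotientGroup.eq]
          simpa using h'
    have heq : ∀ (x : G) (p : G ⧸ H), ι (x • p) = f.symm x • ι p := by
      intro x p
      induction p using QuotientGroup.induction_on with
      | H y =>
        show ((f.symm (x * y) : Cfsg.Sz F m) : _ ⧸ zc hF) = _
        rw [map_mul]
        rfl
    obtain ⟨x, hx⟩ := binAct_zc hm hF n (ι ∘ I) (ι ∘ J) hn fun i j hij => by
      obtain ⟨x, h1, h2⟩ := hpair i j hij
      exact ⟨f.symm x, by rw [Function.comp_apply, ← heq, h1]; rfl, by rw [Function.comp_apply, ← heq, h2]; rfl⟩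
    refine ⟨f x, fun i => hι ?_⟩
    rw [heq, MulEquiv.symm_apply_apply]
    exact hx i

end Cfsg.Agent.Suzuki.Binary
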