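import Cfsg.Agent.Lib.Suzuki.Binary.TwoGroups

/-!
# Coset actions of the Suzuki group: subgroups with elements of odd order
-/

set_option autoImplicit false
set_option linter.unusedSectionVars false

namespace Cfsg.Agent.Suzuki.Binary

open Matrix MulAction Cfsg.Agent.Suzuki

variable {F : Type*} [Field F] [Fintype F] [CharP F 2] {m : ℕ}
variable (hm : 1 ≤ m) (hF : Fintype.card F = 2 ^ (2 * m + 1))

omit [Field F] [Fintype F] [CharP F 2] in
theorem centralizer_mem_self {G : Type*} [Group G] (c : G) :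
    c ∈ Subgroup.centralizer ({c} : Set G) := Subgroup.mem_centralizer_singleton_iff.2 rfl

include hm hF

/-- A subgroup of a torus. -/
theorem bad_in_torus {H T : Subgroup (Cfsg.Sz F m)} (hT : IsTor T) (hle : H ≤ T) (hne : H ≠ ⊥) :
    Bad H := by
  obtain ⟨c, hc, hc1⟩ := H.bot_or_exists_ne_one.resolve_left hne
  obtain ⟨c', h1, h2, h3⟩ := exists_twist hm hF hc1 (hT.not_trType hm hF (hle hc))
  rw [hT.2.2.2 c (hle hc) hc1] at h3
  obtain ⟨g, hg⟩ := isConj_iff.1 h1
  obtain ⟨k, hk⟩ := isConj_iff.1 h2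
  have hTg := hT.map_conj hm hF g
  have hTk := hT.map_conj hm hF k
  refine ⟨H, H.map (MulAut.conj g).toMonoidHom, H.map (MulAut.conj k).toMonoidHom, .self H,
    ⟨g, rfl⟩, ⟨k, rfl⟩, c⁻¹, H.inv_mem hc, c', ⟨c, hc, hg⟩, by rw [inv_inv]; exact ⟨c, hc, hk⟩,
    fun x hxA hxB hxC => ?_⟩
  obtain ⟨x₀, hx₀, hxe⟩ := hxB
  have hx1 : x = 1 := by
    by_contra hx1
    have e := hT.eq_of_mem hm hF hTg (hle hxA) ⟨x₀, hle hx₀, hxe⟩ hx1
    exact h3 (e ▸ ⟨c, hle hc, hg⟩)
  subst hx1
  rw [inv_inv, mul_one] at hxC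
  obtain ⟨z, hz, hze⟩ := hxC
  have e := hT.eq_of_mem hm hF hTk (hle hc) ⟨z, hle hz, hze⟩ hc1
  have h5 : c * c' ∈ T := e ▸ ⟨c, hle hc, hk⟩
  exact h3 ((T.mul_mem_cancel_left (hle hc)).1 h5)

/-- A subgroup fixing infinity with an involution and a diagonal element. -/
theorem bad_borel {H : Subgroup (Cfsg.Sz F m)} (hfix : ∀ x ∈ H, x • infty (F := F) m = infty m)
    {i : Cfsg.Sz F m} (hi : i ∈ H) (hio : orderOf i = 2) {s : Fˣ} (hs : s ≠ 1) (hsH : tor hF s ∈ H) :
    Bad H := by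
  set u : Cfsg.Sz F m := tor hF s * sw hF with hu
  set v : Cfsg.Sz F m := sw hF with hv
  have hv2 : orderOf v = 2 := by
    refine orderOf_eq_prime (by rw [sq, sw_mul_self]) fun e => ?_
    have := sw_smul_infty (m := m) hF
    rw [show sw hF = (1 : Cfsg.Sz F m) from e, one_smul] at this
    exact point_ne_infty (F := F) (m := m) 0 0 this.symm
  have hu2 : orderOf u = 2 := by
    refine orderOf_eq_prime ?_ fun e => ?_
    · rw [sq, hu, show tor hF s * sw hF * (tor hF s * sw hF) = tor hF s * (sw hF * tor hF s * sw hF) by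
        group, tor_swap, ← tor_mul, mul_inv_cancel, tor_one]
    · have h5 : u • infty (F := F) m = infty m := by rw [e, one_smul]
      rw [hu, mul_smul, sw_smul_infty, tor_smul_zero] at h5
      exact point_ne_infty _ _ h5
  have huv : u * v = tor hF s := by rw [hu, hv, mul_assoc, sw_mul_self, mul_one]
  obtain ⟨a, ha⟩ := isConj_iff.1 (isConj_involutions hm hF hio hu2)
  obtain ⟨b, hb⟩ := isConj_iff.1 (isConj_involutions hm hF hio hv2)
  refine ⟨H.map (MulAut.conj a).toMonoidHom, H.map (MulAut.conj b).toMonoidHom, H, ⟨a, rfl⟩, ⟨b, rfl⟩,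
    .self H, u, ⟨i, hi, ha⟩, v, ⟨i, hi, hb⟩, by rw [inv_of_order_two hu2, huv]; exact hsH,
    fun g hgA hgB hgC => ?_⟩
  set pu := a • infty (F := F) m
  set pv := b • infty (F := F) m
  have hua := fixes_of_map_conj hfix a
  have hvb := fixes_of_map_conj hfix b
  have hupu : u • pu = pu := hua u ⟨i, hi, ha⟩
  have hvpv : v • pv = pv := hvb v ⟨i, hi, hb⟩
  have hne : pu ≠ pv := by
    intro e
    rw [← e] at hvpv
    have h5 : tor hF s • pu = pu := by rw [← huv, mul_smul, hvpv, hupu]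
    rcases tor_fixed hF hs h5 with h' | h' <;> rw [h'] at hvpv
    · exact point_ne_infty _ _ ((sw_smul_infty hF).symm.trans hvpv)
    · exact point_ne_infty _ _ ((sw_smul_zero hF).symm.trans hvpv).symm
  -- what `g`, `u`, `v` do to infinity
  rw [inv_of_order_two hu2] at hgC
  have hu0 : u • infty (F := F) m = point m 0 0 := by rw [hu, mul_smul, sw_smul_infty, tor_smul_zero]
  have hv0 : v • infty (F := F) m = point m 0 0 := sw_smul_infty hF
  have hg0 : g • infty (F := F) m = point m 0 0 := by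
    have h5 := hfix _ hgC
    rw [mul_smul, ← eq_inv_smul_iff, inv_of_order_two hu2, hu0] at h5
    exact h5
  -- move `pu`, `pv` to infinity and the origin
  obtain ⟨h, hhu, hhv⟩ := exists_pair_to hm hF hne
  have tr' : ∀ (x : Cfsg.Sz F m) (p r : Cfsg.suzukiOvoid F m), x • p = r →
      (h * x * h⁻¹) • h • p = h • r := by
    intro x p r e
    rw [smul_smul, mul_assoc, inv_mul_cancel, mul_one, mul_smul, e]
  obtain ⟨r, hr⟩ := exists_to hm hF (g := h * g * h⁻¹) (by
    have e := tr' g pu pu (hua g hgA); rwa [hhu] at e) (by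
    have e := tr' g pv pv (hvb g hgB); rwa [hhv] at e)
  obtain ⟨e₀, he0, hue⟩ := involution_fixing_infty hm hF (x := h * u * h⁻¹)
    (by rw [orderOf_conj_eq, hu2]) (by have e := tr' u pu pu hupu; rwa [hhu] at e)
  obtain ⟨d, hd0, hvd⟩ := involution_fixing_infty hm hF (x := sw hF * (h * v * h⁻¹) * (sw hF)⁻¹)
    (by rw [orderOf_conj_eq, orderOf_conj_eq, hv2]) (by
      have e := tr' v pv pv hvpv
      rw [hhv] at e
      rw [mul_smul, mul_smul, sw_inv, sw_smul_infty, e, sw_smul_zero])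
  rcases cases_point (h • infty (F := F) m) with hP1 | ⟨x1, y1, hP1⟩
  · have h5 : infty (F := F) m = pu := smul_left_cancel h (hP1.trans hhu.symm)
    rw [← h5, hu0] at hupu
    exact point_ne_infty _ _ hupu
  have eu := tr' u _ _ hu0
  have eg := tr' g _ _ hg0
  have ev := tr' v _ _ hv0
  rw [hue, hP1, tr_smul_point, zero_pow (show 2 ^ (m + 1) ≠ 0 by positivity), zero_mul, add_zero,
    add_zero] at eu
  rw [hr, hP1, ← eu, tor_smul_point] at eg
  rw [hP1, ← eu] at ev
  obtain ⟨eg1, eg2⟩ := point_injective eg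
  by_cases hx1 : x1 = 0
  · subst hx1
    have hv' : h * v * h⁻¹ = sw hF * tr hF 0 d * sw hF := by
      rw [← hvd, sw_inv]
      calc h * v * h⁻¹ = (sw hF * sw hF) * (h * v * h⁻¹) * (sw hF * sw hF) := by rw [sw_mul_self]; group
        _ = _ := by group
    rw [hv', mul_smul, mul_smul] at ev
    have hy : y1 ≠ 0 := by
      rintro rfl
      exact point_ne_infty (F := F) (m := m) 0 0
        ((smul_left_cancel h (hhv.trans hP1.symm) ▸ hvpv : v • infty (F := F) m = infty m) ▸ hv0).symm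
    have hy2 : y1 + e₀ ≠ 0 := by
      intro e
      rw [e] at eu ev
      have h5 : v • pv = v • infty (F := F) m := by
        rw [hvpv, hv0]; exact smul_left_cancel h (by rw [hhv, ← eu])
      have h6 := smul_left_cancel v h5
      rw [h6, hv0] at hvpv
      exact point_ne_infty _ _ hvpv
    have hf : ∀ y : F, y ≠ 0 → ovf m (0 : F) y = theta F m y := fun y _ => by rw [ovf_eq, map_zero]; ring
    rw [sw_smul_point hF (by rw [hf y1 hy]; exact (map_ne_zero _).2 hy), tr_smul_point] at ev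
    have ev2 := congrArg (fun p => sw hF • p) ev
    simp only [smul_smul, sw_mul_self, one_mul, one_smul] at ev2
    rw [sw_smul_point hF (by rw [hf _ hy2]; exact (map_ne_zero _).2 hy2)] at ev2
    have e5 := (point_injective ev2).2
    simp [zero_pow (show 2 ^ (m + 1) ≠ 0 by positivity)] at e5
    exact hd0 e5
  · have hk : ((r : F)) ^ 2 ^ (m + 1) = 1 := mul_right_cancel₀ hx1 (eg1.trans (one_mul x1).symm)
    have hr1 : (r : F) = 1 := (theta F m).injective (by rw [map_one, theta_def]; exact hk)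
    rw [hr1, one_pow, one_pow, one_mul, one_mul] at eg2
    exact he0 (by linear_combination -eg2)

/-- A subgroup of the normalizer of a torus with an involution and a non-trivial torus element. -/
theorem bad_normalizer {H T : Subgroup (Cfsg.Sz F m)} (hT : IsTor T)
    (hle : H ≤ Subgroup.normalizer (T : Set (Cfsg.Sz F m))) {c : Cfsg.Sz F m} (hc : c ∈ H) (hcT : c ∈ T)
    (hc1 : c ≠ 1) {i : Cfsg.Sz F m} (hi : i ∈ H) (hio : orderOf i = 2) : Bad H := by
  classical
  obtain ⟨w, hw, hcw⟩ := exists_involution_mul hm hF hc1 (hT.not_trType hm hF hcT)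
  set N := Subgroup.normalizer (T : Set (Cfsg.Sz F m)) with hN
  have hww := mul_self_of_order_two hw
  have hc2 : c * c ≠ 1 := fun e => (trType_of_order hm hF (Or.inl (orderOf_eq_prime (p := 2)
    (by rw [sq, e]) hc1))).notMem_tor hm hF hT hcT
  obtain ⟨k, hk⟩ := isConj_iff.1 hcw
  have hTk := hT.map_conj hm hF k
  have hcwT : c * w ∈ T.map (MulAut.conj k).toMonoidHom := ⟨c, hcT, hk⟩
  have hwN : w ∉ N := fun h => by
    have e := hT.inverted hm hF h hw hcT
    have h5 : c * w * (c * w) = 1 := by rw [show c * w * (c * w) = c * (w * c * w) by group, e, mul_inv_cancel]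
    rw [← hk] at h5
    exact hc2 ((conj_eq_one_iff (a := k)).1 (by rw [← h5]; group))
  have hwC : w ∉ Subgroup.normalizer ((T.map (MulAut.conj k).toMonoidHom : Subgroup _) : Set (Cfsg.Sz F m)) :=
    fun h => by
    have e := hTk.inverted hm hF h hw hcwT
    rw [_root_.mul_inv_rev, inv_of_order_two hw, show w * (c * w) * w = w * c * (w * w) by group, hww,
      mul_one] at e
    exact hc2 (mul_eq_one_iff_eq_inv.2 (mul_left_cancel e))
  obtain ⟨a, ha⟩ := isConj_iff.1 (isConj_involutions hm hF hio hw)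
  -- the centraliser
  obtain ⟨e₁, b, hb0, he⟩ : ∃ (l : Cfsg.Sz F m) (b : F), b ≠ 0 ∧ l * tr hF 0 b * l⁻¹ = w := by
    obtain ⟨l, hl⟩ := isConj_iff.1 (isConj_involutions hm hF (orderOf_center_tr hF (one_ne_zero (α := F))) hw)
    exact ⟨l, 1, one_ne_zero, hl⟩
  set W : Subgroup (Cfsg.Sz F m) := (U hF).map (MulAut.conj e₁).toMonoidHom with hW
  have hWc : ∀ g ∈ W, g * w * g⁻¹ = w := by
    rintro _ ⟨_, ⟨x, y, rfl⟩, rfl⟩
    show e₁ * tr hF x y * e₁⁻¹ * w * (e₁ * tr hF x y * e₁⁻¹)⁻¹ = w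
    rw [← he, show e₁ * tr hF x y * e₁⁻¹ * (e₁ * tr hF 0 b * e₁⁻¹) * (e₁ * tr hF x y * e₁⁻¹)⁻¹ =
      e₁ * (tr hF x y * tr hF 0 b * (tr hF x y)⁻¹) * e₁⁻¹ by group]
    congr 2
    rw [mul_inv_eq_iff_eq_mul, tr_mul, tr_mul]
    congr 1 <;> simp [add_comm]
  have hWcard : Nat.card W = Fintype.card F ^ 2 := by
    rw [hW, Subgroup.card_map_of_injective (MulAut.conj e₁).injective, card_U]
  set Ta := T.map (MulAut.conj a).toMonoidHom with hTa
  have hTa' := hT.map_conj hm hF a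
  set φ : W → Subgroup (Cfsg.Sz F m) := fun g => Ta.map (MulAut.conj (g : Cfsg.Sz F m)).toMonoidHom with hφ
  -- some member avoids the second conjugate
  suffices hgood : ∃ g : W, ∀ x ∈ Subgroup.normalizer ((φ g : Subgroup _) : Set (Cfsg.Sz F m)), x ∈ N → x = 1 by
    obtain ⟨g, hg⟩ := hgood
    refine ⟨(H.map (MulAut.conj a).toMonoidHom).map (MulAut.conj (g : Cfsg.Sz F m)).toMonoidHom, H,
      H.map (MulAut.conj k).toMonoidHom, IsConjOf.trans ⟨a, rfl⟩ ⟨_, rfl⟩, .self H, ⟨k, rfl⟩, w,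
      ⟨w, ⟨i, hi, ha⟩, hWc _ g.2⟩, c⁻¹, H.inv_mem hc, ?_, fun x hxA hxB hxC => ?_⟩
    · rw [← _root_.mul_inv_rev]
      exact inv_mem ⟨c, hc, hk⟩
    · have hx1 : x = 1 := by
        refine hg x ?_ (hle hxB)
        obtain ⟨y, ⟨z, hz, rfl⟩, rfl⟩ := hxA
        show MulAut.conj (g : Cfsg.Sz F m) (MulAut.conj a z) ∈ _
        rw [hφ, ← Subgroup.map_equiv_normalizer_eq]
        refine ⟨_, ?_, rfl⟩
        rw [hTa, ← Subgroup.map_equiv_normalizer_eq]
        exact ⟨z, hle hz, rfl⟩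
      subst hx1
      rw [mul_one, inv_of_order_two hw] at hxC
      obtain ⟨z, hz, hze⟩ := hxC
      refine hwC ?_
      rw [← Subgroup.map_equiv_normalizer_eq]
      exact ⟨z, hle hz, hze⟩
  by_contra hcon
  push Not at hcon
  have hwφ : ∀ g : W, w ∈ Subgroup.normalizer ((φ g : Subgroup _) : Set (Cfsg.Sz F m)) := fun g => by
    rw [hφ, ← Subgroup.map_equiv_normalizer_eq]
    refine ⟨w, ?_, hWc _ g.2⟩
    rw [hTa, ← Subgroup.map_equiv_normalizer_eq]
    exact ⟨i, hle hi, ha⟩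
  -- each member has an involution in common with `N`
  have hinv : ∀ g : W, ∃ j, j ∈ Subgroup.normalizer ((φ g : Subgroup _) : Set (Cfsg.Sz F m)) ∧ j ∈ N ∧
      orderOf j = 2 := fun g => by
    obtain ⟨x, hx1, hx2, hx3⟩ := hcon g
    have hTg := hTa'.map_conj hm hF (g : Cfsg.Sz F m)
    have hxT : x ∉ T := fun h => by
      have hodd : Odd (orderOf x) := hT.2.2.1.of_dvd_nat (Subgroup.orderOf_dvd_natCard _ h)
      have e := hT.eq_of_mem hm hF hTg h (hTg.mem_of_normalizer hm hF hx1 hodd) hx3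
      exact hwN (by rw [hN, e]; exact hwφ g)
    rcases (hT.trType_of_notMem hm hF hx2 hxT).order_cases hm hF with e | e
    · exact ⟨x, hx1, hx2, e⟩
    · exact ⟨x ^ 2, pow_mem hx1 2, pow_mem hx2 2, by rw [orderOf_pow' _ two_ne_zero, e]; rfl⟩
  choose j hj1 hj2 hj3 using hinv
  -- the image is large
  set 𝒯 : Finset (Subgroup (Cfsg.Sz F m)) := by
    letI := Fintype.ofFinite W
    exact Finset.univ.image φ with h𝒯
  letI := Fintype.ofFinite W
  have hfib : ∀ S ∈ Finset.univ.image φ, (Finset.univ.filter fun g => φ g = S).card ≤ 4 := by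
    intro S hS
    obtain ⟨g₀, -, rfl⟩ := Finset.mem_image.1 hS
    set K := W ⊓ Subgroup.normalizer ((φ g₀ : Subgroup _) : Set (Cfsg.Sz F m)) with hK
    have hK4 : Nat.card K ≤ 4 := by
      have h1 : Nat.card K ∣ 2 ^ (2 * (2 * m + 1)) := by
        have e : Nat.card W = 2 ^ (2 * (2 * m + 1)) := by rw [hWcard, hF, ← pow_mul]; ring_nf
        exact e ▸ Subgroup.card_dvd_of_le inf_le_left
      have hTg := hTa'.map_conj hm hF (g₀ : Cfsg.Sz F m)
      have h2 : Nat.card K ∣ 4 * Nat.card (φ g₀) := by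
        refine (Subgroup.card_dvd_of_le (inf_le_right : K ≤ _)).trans ?_
        rcases hTg.cases hm hF with ⟨-, -, e⟩ | ⟨-, -, e⟩ <;> rw [hφ, e]
        exact ⟨2, by ring⟩
      have h3 : Nat.Coprime (Nat.card K) (Nat.card (φ g₀)) := by
        refine Nat.Coprime.coprime_dvd_left h1 ?_
        exact (coprime_of_two_pow hTg.2.2.1).symm
      exact Nat.le_of_dvd (by norm_num) (h3.dvd_of_dvd_mul_right h2)
    refine le_trans ?_ hK4
    rw [← Fintype.card_coe, ← Nat.card_eq_fintype_card]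
    refine Nat.card_le_card_of_injective (fun g => ⟨(g.1 : Cfsg.Sz F m) * (g₀ : Cfsg.Sz F m)⁻¹, ?_⟩) ?_
    · refine ⟨W.mul_mem g.1.2 (W.inv_mem g₀.2), ?_⟩
      show _ ∈ Subgroup.normalizer _
      rw [Subgroup.mem_normalizer_iff_map_conj_eq]
      have e := (Finset.mem_filter.1 g.2).2
      refine Eq.trans ?_ e
      show (Ta.map (MulAut.conj (g₀ : Cfsg.Sz F m)).toMonoidHom).map _ = _
      rw [Subgroup.map_map]
      congr 1
      ext z
      simp [mul_assoc]
    · intro g g' e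
      have e' : (g.1 : Cfsg.Sz F m) * (g₀ : Cfsg.Sz F m)⁻¹ = g'.1 * (g₀ : Cfsg.Sz F m)⁻¹ :=
        congrArg Subtype.val e
      exact Subtype.ext (Subtype.ext (mul_right_cancel e'))
  have hlarge : Fintype.card F ^ 2 ≤ 4 * (Finset.univ.image φ).card := by
    rw [← hWcard, Nat.card_eq_fintype_card, ← Finset.card_univ]
    exact Finset.card_le_mul_card_image _ 4 hfib
  -- but there are few involutions in `N`
  have hsmall : (Finset.univ.image φ).card ≤ Nat.card T := by
    rw [← (hT.count hm hF).1]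
    have hS : ∀ S : {S // S ∈ Finset.univ.image φ}, ∃ g, φ g = S.1 := fun S => by
      obtain ⟨g, -, e⟩ := Finset.mem_image.1 S.2
      exact ⟨g, e⟩
    choose sec hsec using hS
    rw [← Nat.card_coe_set_eq, ← Fintype.card_coe, ← Nat.card_eq_fintype_card]
    refine Nat.card_le_card_of_injective (fun S => ⟨j (sec S), hj2 _, hj3 _⟩) fun S S' e => ?_
    have e' : j (sec S) = j (sec S') := congrArg Subtype.val e
    apply Subtype.ext
    rw [← hsec S, ← hsec S']
    have hne : w * j (sec S) ≠ 1 := fun e1 => by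
      have e2 : j (sec S) = w⁻¹ := eq_inv_of_mul_eq_one_right e1
      rw [inv_of_order_two hw] at e2
      exact hwN (e2 ▸ hj2 _)
    have key : ∀ g : W, j g = j (sec S) → w * j (sec S) ∈ φ g := fun g eg => by
      have hTg := hTa'.map_conj hm hF (g : Cfsg.Sz F m)
      obtain ⟨t, ht, ht1⟩ := (φ g).bot_or_exists_ne_one.resolve_left hTg.1
      show w * j (sec S) ∈ Ta.map (MulAut.conj (g : Cfsg.Sz F m)).toMonoidHom
      rw [← hTg.2.2.2 t ht ht1, Subgroup.mem_centralizer_singleton_iff]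
      have e1 := hTg.inverted hm hF (hwφ g) hw (inv_mem ht)
      have e2 := hTg.inverted hm hF (hj1 g) (hj3 g) ht
      rw [eg] at e2
      have hjj := mul_self_of_order_two (hj3 (sec S))
      rw [inv_inv] at e1
      calc w * j (sec S) * t = w * (j (sec S) * t * j (sec S)) * j (sec S) := by
            rw [mul_assoc w (_ * _ * _), mul_assoc (j (sec S) * t), hjj, mul_one]; group
        _ = w * t⁻¹ * w * (w * j (sec S)) := by rw [e2]; simp [mul_assoc, ← mul_assoc w w, hww]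
        _ = t * (w * j (sec S)) := by rw [e1]
    exact (hTa'.map_conj hm hF _).eq_of_mem hm hF (hTa'.map_conj hm hF _) (key _ rfl) (key _ e'.symm) hne
  have hTle : Nat.card T ≤ kPlus m := by
    rcases hT.cases hm hF with ⟨e, -, -⟩ | ⟨e | e, -, -⟩ <;> rw [e]
    · rw [hF, kPlus]
      exact (Nat.sub_le _ _).trans (Nat.le_add_right_of_le (Nat.le_add_right _ _))
    · rw [kPlus, kMinus]
      exact Nat.add_le_add_right ((Nat.sub_le _ _).trans (Nat.le_add_right _ _)) 1
  have h8 := two_mul_r_le hm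
  rw [hF] at hlarge
  unfold kPlus at hTle
  have hq : 8 ≤ 2 ^ (2 * m + 1) :=
    le_trans (by norm_num) (Nat.pow_le_pow_right (by norm_num) (show 3 ≤ 2 * m + 1 by omega))
  have h6 : 4 * (2 ^ (2 * m + 1) + 2 ^ (m + 1) + 1) < (2 ^ (2 * m + 1)) ^ 2 := by nlinarith
  omega

omit [CharP F 2] hm hF in
theorem exists_notMem_range {K : Type} [Field K] [Fintype K] (φ : K →+* F)
    (hlt : Fintype.card K < Fintype.card F) : ∃ b : F, ∀ x, φ x ≠ b := by
  by_contra hcon
  push Not at hcon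
  have := Fintype.card_le_of_surjective φ hcon
  omega

theorem subfield_first_type {K : Type} [Field K] [Fintype K] [CharP K 2] {k : ℕ} (hk : 1 ≤ k)
    (hK : Fintype.card K = 2 ^ (2 * k + 1)) (hdiv : 2 * k + 1 ∣ 2 * m + 1) (φ : K →+* F) {b : F}
    (hb : ∀ x, φ x ≠ b) {x : Cfsg.Sz F m} (hx : x ∈ (subfieldHom hm hF hk hK hdiv φ).range)
    (hxb : tr hF 0 b * x * tr hF 0 b ∈ (subfieldHom hm hF hk hK hdiv φ).range) :
    ∃ a c, x = tr hF (φ a) (φ c) := by
  have h0 : (0 : F) ^ 2 ^ (m + 1) = 0 := zero_pow (by positivity)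
  obtain ⟨y, rfl⟩ := hx
  obtain ⟨y', hy'⟩ := hxb
  set f := subfieldHom hm hF hk hK hdiv φ with hf
  have hfsw : f (sw hK) = sw hF := subfieldHom_sw hm hF hk hK hdiv φ
  rcases bruhat hk hK y with ⟨a, c, s, rfl⟩ | ⟨a, c, a', c', s, rfl⟩
  · rcases bruhat hk hK y' with ⟨a₁, c₁, s₁, rfl⟩ | ⟨a₁, c₁, a₁', c₁', s₁, rfl⟩
    · rw [map_mul, map_mul, subfieldHom_tr hm hF hk hK hdiv φ, subfieldHom_tor hm hF hk hK hdiv φ,
        subfieldHom_tr hm hF hk hK hdiv φ, subfieldHom_tor hm hF hk hK hdiv φ] at hy'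
      set σ : Fˣ := Units.map φ.toMonoidHom s with hσ
      rw [show tr hF 0 b * (tr hF (φ a) (φ c) * tor hF σ) * tr hF 0 b =
        tr hF 0 b * tr hF (φ a) (φ c) * (tor hF σ * tr hF 0 b) by group, tor_mul_tr, ← mul_assoc,
        tr_mul, tr_mul] at hy'
      obtain ⟨-, e2, e3⟩ := tr_tor_injective hF hy'
      refine ⟨a, c, ?_⟩
      by_cases hs : s = 1
      · rw [hs, tor_one, mul_one]; exact subfieldHom_tr hm hF hk hK hdiv φ a c
      exfalso
      simp only [mul_zero, zero_add, add_zero, h0, zero_mul] at e2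
      set κ := (s : K) ^ 2 ^ (k + 1) * (s : K) ^ 2 with hκ
      have hκ' : (σ : F) ^ 2 ^ (m + 1) * (σ : F) ^ 2 = φ κ := by
        rw [hκ, map_mul, map_pow φ _ 2, ← theta_def, ← theta_def, theta_map hdiv φ hK]
        rfl
      rw [hκ'] at e2
      have hκ1 : κ ≠ 1 := fun e => hs (Units.ext ((eq_one_of_theta_mul_sq (m := k) hK (u := (s : K))
        (by rw [theta_def]; exact e)).trans Units.val_one.symm))
      refine hb ((c₁ + c) / (1 + κ)) ?_
      have h1 : (1 + κ) ≠ 0 := fun e => hκ1 (CharTwo.add_eq_zero.1 e).symm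
      rw [map_div₀, map_add, map_add, map_one, div_eq_iff (by
        rw [← map_one φ, ← map_add]; exact (map_ne_zero φ).2 h1)]
      linear_combination e2 + φ c * (CharTwo.two_eq_zero : (2 : F) = 0)
    · exfalso
      have e := congrArg (fun g : Cfsg.Sz F m => g • infty (F := F) m) hy'
      simp only [map_mul, hfsw, subfieldHom_tr hm hF hk hK hdiv φ, subfieldHom_tor hm hF hk hK hdiv φ, hf,
        mul_smul, tor_smul_infty, tr_smul_infty, sw_smul_infty, tr_smul_zero] at e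
      simp only [← hf, hfsw, sw_smul_infty, tr_smul_zero, tr_smul_infty] at e
      exact point_ne_infty _ _ e
  · exfalso
    have e := congrArg (fun g : Cfsg.Sz F m => g • infty (F := F) m) hy'
    rcases bruhat hk hK y' with ⟨a₁, c₁, s₁, rfl⟩ | ⟨a₁, c₁, a₁', c₁', s₁, rfl⟩ <;>
      simp only [hf, map_mul, subfieldHom_sw hm hF hk hK hdiv φ, subfieldHom_tr hm hF hk hK hdiv φ,
        subfieldHom_tor hm hF hk hK hdiv φ,
        mul_smul, tor_smul_infty, tr_smul_infty, sw_smul_infty, tr_smul_zero, tr_smul_point, h0, zero_mul,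
        add_zero] at e
    · exact point_ne_infty _ _ e.symm
    · refine hb (c₁ + c) ?_
      rw [map_add]
      linear_combination (point_injective e).2 + φ c * (CharTwo.two_eq_zero : (2 : F) = 0)

/-- A subfield subgroup. -/
theorem bad_subfield {K : Type} [Field K] [Fintype K] [CharP K 2] {k : ℕ} (hk : 1 ≤ k)
    (hK : Fintype.card K = 2 ^ (2 * k + 1)) (hdiv : 2 * k + 1 ∣ 2 * m + 1) (φ : K →+* F)
    (hlt : Fintype.card K < Fintype.card F) : Bad (subfieldHom hm hF hk hK hdiv φ).range := by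
  set R := (subfieldHom hm hF hk hK hdiv φ).range with hR
  obtain ⟨b, hb⟩ := exists_notMem_range φ hlt
  obtain ⟨s, hs⟩ := exists_unit_ne_one (F := K) hk hK
  set σ : Fˣ := Units.map φ.toMonoidHom s with hσ
  set κ := (s : K) ^ 2 ^ (k + 1) * (s : K) ^ 2 with hκ
  have hκ' : (σ : F) ^ 2 ^ (m + 1) * (σ : F) ^ 2 = φ κ := by
    rw [hκ, map_mul, map_pow φ _ 2, ← theta_def, ← theta_def, theta_map hdiv φ hK]
    rfl
  have hκ0 : κ ≠ 0 := mul_ne_zero (pow_ne_zero _ s.ne_zero) (pow_ne_zero _ s.ne_zero)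
  have hκ1 : 1 + κ ≠ 0 := fun e => hs (Units.ext ((eq_one_of_theta_mul_sq (m := k) hK (u := (s : K))
    (by rw [theta_def]; exact (CharTwo.add_eq_zero.1 e).symm)).trans Units.val_one.symm))
  set lam := κ / (1 + κ) with hlam
  have hlam0 : lam ≠ 0 := div_ne_zero hκ0 hκ1
  set b3 := φ lam * b with hb3
  have hb3' : ∀ x, φ x ≠ b3 := fun x e => hb (x / lam) (by
    rw [map_div₀, div_eq_iff ((map_ne_zero φ).2 hlam0), e, hb3, mul_comm])
  have hsR : tor hF σ ∈ R := ⟨tor hK s, subfieldHom_tor hm hF hk hK hdiv φ s⟩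
  have hn : ∀ d : F, (tr hF 0 d)⁻¹ = (tr hF 0 d : Cfsg.Sz F m) := fun d => by rw [tr_inv]; simp
  refine ⟨R, R.map (MulAut.conj (tr hF 0 b)).toMonoidHom, R.map (MulAut.conj (tr hF 0 b3)).toMonoidHom,
    .self R, ⟨_, rfl⟩, ⟨_, rfl⟩, (tor hF σ)⁻¹, R.inv_mem hsR,
    tr hF 0 b * tor hF σ * (tr hF 0 b)⁻¹, ⟨_, hsR, rfl⟩, ⟨tor hF (σ * σ), ?_, ?_⟩, fun g hgA hgB hgC => ?_⟩
  · rw [tor_mul]; exact R.mul_mem hsR hsR
  · show tr hF 0 b3 * tor hF (σ * σ) * (tr hF 0 b3)⁻¹ = (tor hF σ)⁻¹⁻¹ * (tr hF 0 b * tor hF σ * (tr hF 0 b)⁻¹)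
    rw [inv_inv, hn, hn]
    have lhs : tr hF 0 b3 * tor hF (σ * σ) * tr hF 0 b3 =
        (tr hF 0 (b3 + φ κ * φ κ * b3) * tor hF (σ * σ) : Cfsg.Sz F m) := by
      rw [mul_assoc, tor_mul_tr, ← mul_assoc, tr_mul]
      simp only [mul_zero, add_zero, zero_pow (show 2 ^ (m + 1) ≠ 0 by positivity), zero_mul]
      congr 2
      rw [← hκ', Units.val_mul]
      ring
    have rhs : tor hF σ * (tr hF 0 b * tor hF σ * tr hF 0 b) =
        (tr hF 0 (φ κ * b + φ κ * (φ κ * b)) * tor hF (σ * σ) : Cfsg.Sz F m) := by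
      rw [show tor hF σ * (tr hF 0 b * tor hF σ * tr hF 0 b) =
        (tor hF σ * tr hF 0 b) * (tor hF σ * tr hF 0 b) by group, tor_mul_tr, tor_mul,
        show ∀ P Q : Cfsg.Sz F m, P * tor hF σ * (Q * tor hF σ) = P * (tor hF σ * Q * (tor hF σ)⁻¹) *
          (tor hF σ * tor hF σ) from fun P Q => by group, conj_tr, tr_mul]
      simp only [mul_zero, add_zero, zero_pow (show 2 ^ (m + 1) ≠ 0 by positivity), zero_mul]
      rw [← hκ']
    rw [lhs, rhs]
    congr 2
    have h1 : φ κ + 1 ≠ 0 := by rw [← map_one φ, ← map_add, add_comm]; exact (map_ne_zero φ).2 hκ1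
    rw [hb3, hlam, map_div₀, map_add, map_one, add_comm (1 : F)]
    field_simp
    linear_combination (-(φ κ) * φ κ * b) * (CharTwo.two_eq_zero : (2 : F) = 0)
  · obtain ⟨g₀, hg₀, hge⟩ := hgB
    obtain ⟨a, c, rfl⟩ := subfield_first_type hm hF hk hK hdiv φ hb hgA (by
      rw [← hge]
      show tr hF 0 b * (tr hF 0 b * g₀ * (tr hF 0 b)⁻¹) * tr hF 0 b ∈ R
      rw [hn, show tr hF 0 b * (tr hF 0 b * g₀ * tr hF 0 b) * tr hF 0 b =
        (tr hF 0 b * tr hF 0 b) * g₀ * (tr hF 0 b * tr hF 0 b) by group, tr_pair_mul, CharTwo.add_self_eq_zero,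
        tr_zero, one_mul, mul_one]
      exact hg₀)
    have hgC' : tor hF σ ∈ R.map (MulAut.conj (tr hF 0 b3)).toMonoidHom := by
      rw [inv_inv] at hgC
      refine (Subgroup.mul_mem_cancel_right (R.map (MulAut.conj (tr hF 0 b3)).toMonoidHom)
        ⟨tr hF (φ a) (φ c), hgA, ?_⟩).1 hgC
      show tr hF 0 b3 * tr hF (φ a) (φ c) * (tr hF 0 b3)⁻¹ = _
      rw [mul_inv_eq_iff_eq_mul, tr_mul, tr_mul]
      congr 1 <;> simp [add_comm]
    obtain ⟨z, hz, hze⟩ := hgC'
    obtain ⟨a', c', he⟩ := subfield_first_type hm hF hk hK hdiv φ hb3' hsR (by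
      rw [← hze]
      show tr hF 0 b3 * (tr hF 0 b3 * z * (tr hF 0 b3)⁻¹) * tr hF 0 b3 ∈ R
      rw [hn, show tr hF 0 b3 * (tr hF 0 b3 * z * tr hF 0 b3) * tr hF 0 b3 =
        (tr hF 0 b3 * tr hF 0 b3) * z * (tr hF 0 b3 * tr hF 0 b3) by group, tr_pair_mul,
        CharTwo.add_self_eq_zero, tr_zero, one_mul, mul_one]
      exact hz)
    have e := (tr_tor_injective hF (a := 0) (b := 0) (c := φ a') (d := φ c') (s := σ) (t := 1)
      (by rw [tr_zero, one_mul, tor_one, mul_one]; exact he)).2.2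
    refine hs (Units.ext ?_)
    have e' := congrArg (fun u : Fˣ => (u : F)) e
    simp only [hσ, Units.coe_map, Units.val_one] at e'
    exact φ.injective (e'.trans (map_one φ).symm)

end Cfsg.Agent.Suzuki.Binary
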