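import Cfsg.Agent.Lib.Suzuki.Subgroups

/-!
# Traces of products of involutions in the Suzuki group

The trace of the product of two non-commuting involutions determines its conjugacy class. Two
consequences: every non-identity element `c` of odd order has a conjugate `c'` outside its torus
with `c * c'` conjugate to `c`, and an involution `w` with `c * w` conjugate to `c`.
-/

set_option autoImplicit false
set_option linter.unusedSectionVars false

namespace Cfsg.Agent.Suzuki.Binary

open Matrix MulAction Cfsg.Agent.Suzuki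

variable {F : Type*} [Field F] [Fintype F] [CharP F 2] {m : ℕ}
variable (hm : 1 ≤ m) (hF : Fintype.card F = 2 ^ (2 * m + 1))

/-- The trace. -/
def tc (g : Cfsg.Sz F m) : F := Matrix.trace (g.1 : Matrix (Fin 4) (Fin 4) F)

omit [Fintype F] [CharP F 2] in
theorem tc_conj (h g : Cfsg.Sz F m) : tc (h * g * h⁻¹) = tc g := by
  have e : ((h⁻¹).1 : Matrix (Fin 4) (Fin 4) F) * (h.1 : Matrix (Fin 4) (Fin 4) F) = 1 :=
    congrArg (fun z : Cfsg.Sz F m => (z.1 : Matrix (Fin 4) (Fin 4) F)) (inv_mul_cancel h)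
  show Matrix.trace ((h.1 : Matrix (Fin 4) (Fin 4) F) * (g.1 : Matrix (Fin 4) (Fin 4) F) *
    ((h⁻¹).1 : Matrix (Fin 4) (Fin 4) F)) = _
  rw [Matrix.trace_mul_comm, ← mul_assoc, e, one_mul]
  rfl

include hF

theorem trace_one : tc (1 : Cfsg.Sz F m) = 0 := by
  show Matrix.trace (1 : Matrix (Fin 4) (Fin 4) F) = 0
  rw [Matrix.trace_one, Fintype.card_fin]
  have h2 : (2 : F) = 0 := CharTwo.two_eq_zero
  push_cast
  linear_combination (2 : F) * h2

theorem tc_tr (a b : F) : tc (tr hF a b : Cfsg.Sz F m) = 0 := by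
  show Matrix.trace (transMat m a b) = 0
  simp [Matrix.trace, Fin.sum_univ_four, transMat, CharTwo.add_self_eq_zero]

theorem tc_two_prod (p : F) :
    tc (tr hF 0 p * (sw hF * tr hF 0 1 * sw hF) : Cfsg.Sz F m) = theta F m p := by
  show Matrix.trace (transMat m 0 p * (swapMat * transMat m 0 1 * swapMat)) = _
  have h2 : (2 : F) = 0 := CharTwo.two_eq_zero
  simp [Matrix.trace, Fin.sum_univ_four, transMat, swapMat, ovf_eq, ← theta_def]
  linear_combination (2 + p : F) * h2

theorem tc_four_prod (b c e : F) :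
    tc (tr hF 0 b * (sw hF * tr hF 0 1 * sw hF) * tr hF 0 c * (sw hF * tr hF 0 e * sw hF) :
      Cfsg.Sz F m) = theta F m (b + c) * (1 + theta F m e) + theta F m b * theta F m c * theta F m e +
        (e + theta F m e) * (b * theta F m c + theta F m b * c) := by
  show Matrix.trace (transMat m 0 b * (swapMat * transMat m 0 1 * swapMat) * transMat m 0 c *
    (swapMat * transMat m 0 e * swapMat)) = _
  have h2 : (2 : F) = 0 := CharTwo.two_eq_zero
  simp [Matrix.trace, Fin.sum_univ_four, transMat, swapMat, ovf_eq, ← theta_def]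
  linear_combination (2 + b + b * e + c + c * e + b * c * e) * h2

theorem tc_twist (x y : F) :
    tc (sw hF * tr hF 0 1 * sw hF * tr hF x y * (sw hF * tr hF 0 1 * sw hF) * (tr hF x y)⁻¹ :
      Cfsg.Sz F m) = ovf m x y ^ 2 := by
  rw [tr_inv]
  show Matrix.trace (swapMat * transMat m 0 1 * swapMat * transMat m x y *
    (swapMat * transMat m 0 1 * swapMat) * transMat m x (y + x ^ 2 ^ (m + 1) * x)) = _
  simp [Matrix.trace, Fin.sum_univ_four, transMat, swapMat, ovf_eq, ← theta_def,
    map_add, map_mul, theta_theta hF]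
  have h2 : (2 : F) = 0 := CharTwo.two_eq_zero
  linear_combination (4 * y + 4 * y * x + 3 * y * x * theta F m x + 6 * y * x ^ 2 * theta F m x +
    6 * x * theta F m x + 6 * x ^ 2 * theta F m x + 3 * x ^ 2 * theta F m x ^ 2 +
    3 * x ^ 3 * theta F m x ^ 2 + 2 + y * x ^ 3 * theta F m x + 2 * y * theta F m y + y ^ 2 +
    2 * y ^ 2 * x + 2 * x * theta F m x * theta F m y + x ^ 2 * theta F m x * theta F m y +
    x ^ 4 * theta F m x ^ 2 + theta F m x * theta F m y + 2 * theta F m y) * h2

theorem scale_surj (z : F) (hz : z ≠ 0) :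
    ∃ s : Fˣ, (s : F) ^ 2 ^ (m + 1) * (s : F) ^ 2 = z := by
  obtain ⟨u, hu⟩ := Finite.surjective_of_injective (theta_mul_sq_injective (m := m) hF) z
  have hu' : theta F m u * u ^ 2 = z := hu
  refine ⟨Units.mk0 u fun e => hz (by rw [← hu', e]; simp), ?_⟩
  rw [← theta_def]; exact hu'

end Cfsg.Agent.Suzuki.Binary
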