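import Cfsg.Agent.Lib.Suzuki.Binary.Products
import Cfsg.Agent.Lib.Suzuki.Binary.Criterion
import Cfsg.Agent.Lib.Suzuki.Binary.Additive

/-!
# Coset actions of the Suzuki group: two-subgroups
-/

set_option autoImplicit false
set_option linter.unusedSectionVars false

namespace Cfsg.Agent.Suzuki.Binary

open Matrix MulAction Cfsg.Agent.Suzuki

variable {F : Type*} [Field F] [Fintype F] [CharP F 2] {m : ℕ}
variable (hm : 1 ≤ m) (hF : Fintype.card F = 2 ^ (2 * m + 1))

omit [Field F] [Fintype F] [CharP F 2] in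
theorem IsConjOf.self {G : Type*} [Group G] (H : Subgroup G) : IsConjOf H H := by
  refine ⟨1, ?_⟩
  rw [map_one]
  exact H.map_id

omit [Field F] [Fintype F] [CharP F 2] in
theorem IsConjOf.trans {G : Type*} [Group G] {H A B : Subgroup G} (h : IsConjOf H A)
    (h' : IsConjOf A B) : IsConjOf H B := by
  obtain ⟨g, rfl⟩ := h
  obtain ⟨g', rfl⟩ := h'
  refine ⟨g' * g, ?_⟩
  rw [Subgroup.map_map, map_mul]
  rfl

omit [Field F] [Fintype F] [CharP F 2] in
theorem Bad.of_conj {G : Type*} [Group G] {H A : Subgroup G} (h : IsConjOf H A) (hA : Bad A) : Bad H := by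
  obtain ⟨P, Q, R, hP, hQ, hR, rest⟩ := hA
  exact ⟨P, Q, R, h.trans hP, h.trans hQ, h.trans hR, rest⟩

omit [Field F] [Fintype F] [CharP F 2] in
theorem smul_conj {G α : Type*} [Group G] [MulAction G α] {g h : G} {p : α} (hp : h • p = p) :
    (g * h * g⁻¹) • g • p = g • p := by
  rw [smul_smul, mul_assoc, inv_mul_cancel, mul_one, mul_smul, hp]

omit [Field F] [Fintype F] [CharP F 2] in
theorem fixes_of_map_conj {G α : Type*} [Group G] [MulAction G α] {H : Subgroup G} {p : α}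
    (hH : ∀ x ∈ H, x • p = p) (g : G) : ∀ x ∈ H.map (MulAut.conj g).toMonoidHom, x • g • p = g • p := by
  rintro _ ⟨x, hx, rfl⟩
  exact smul_conj (hH x hx)

/-- The centre of the standard Sylow two-subgroup. -/
noncomputable def zc (hF : Fintype.card F = 2 ^ (2 * m + 1)) : Subgroup (Cfsg.Sz F m) where
  carrier := {g | ∃ b, g = tr hF 0 b}
  one_mem' := ⟨0, (tr_zero hF).symm⟩
  mul_mem' := by
    rintro _ _ ⟨a, rfl⟩ ⟨b, rfl⟩
    exact ⟨a + b, by rw [tr_mul]; simp⟩
  inv_mem' := by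
    rintro _ ⟨a, rfl⟩
    exact ⟨a, by rw [tr_inv]; simp⟩

include hF

theorem tr_pair_mul (b c : F) : tr hF 0 b * tr hF 0 c = (tr hF 0 (b + c) : Cfsg.Sz F m) := by
  rw [tr_mul]; simp

theorem conj_tor_center (s : Fˣ) (b : F) : tor hF s * tr hF 0 b * (tor hF s)⁻¹ =
    (tr hF 0 ((s : F) ^ 2 ^ (m + 1) * (s : F) ^ 2 * b) : Cfsg.Sz F m) := by
  rw [conj_tr, mul_zero]

include hm

/-- A subgroup of the centre, neither trivial nor everything. -/
theorem bad_elementary {H : Subgroup (Cfsg.Sz F m)} (hle : H ≤ zc hF) (hne : H ≠ ⊥) (hne' : H ≠ zc hF) :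
    Bad H := by
  let V : AddSubgroup F :=
    { carrier := {b | tr hF 0 b ∈ H}
      zero_mem' := by rw [Set.mem_ofPred_eq, tr_zero]; exact H.one_mem
      add_mem' := fun {a b} ha hb => by
        rw [Set.mem_ofPred_eq, ← tr_pair_mul hF]; exact H.mul_mem ha hb
      neg_mem' := fun {a} ha => by
        rw [Set.mem_ofPred_eq, CharTwo.neg_eq]; exact ha }
  have hV : V ≠ ⊥ := fun e => hne (eq_bot_iff.2 fun x hx => by
    obtain ⟨b, rfl⟩ := hle hx
    have : b ∈ V := hx
    rw [e, AddSubgroup.mem_bot] at this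
    rw [this, tr_zero, Subgroup.mem_bot])
  have hV' : V ≠ ⊤ := fun e => hne' (le_antisymm hle (by
    rintro _ ⟨b, rfl⟩
    show b ∈ V
    rw [e]; trivial))
  obtain ⟨t, s, v, v₁, v₂, ht, hs, hv, hv₁, hv₂, heq, hno⟩ := distFail hF V hV hV'
  obtain ⟨σ, hσ⟩ := scale_surj (m := m) hF t ht
  obtain ⟨ρ, hρ⟩ := scale_surj (m := m) hF s hs
  refine ⟨H, H.map (MulAut.conj (tor hF σ)).toMonoidHom, H.map (MulAut.conj (tor hF ρ)).toMonoidHom,
    .self H, ⟨_, rfl⟩, ⟨_, rfl⟩, tr hF 0 v, hv, tr hF 0 (t * v₁), ⟨_, hv₁, ?_⟩, ⟨_, hv₂, ?_⟩, ?_⟩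
  · show tor hF σ * tr hF 0 v₁ * (tor hF σ)⁻¹ = _
    rw [conj_tor_center hF, hσ]
  · show tor hF ρ * tr hF 0 v₂ * (tor hF ρ)⁻¹ = _
    rw [conj_tor_center hF, hρ, tr_inv, ← heq]
    simp [tr_pair_mul hF]
  · rintro g hgA ⟨g₁, hg₁, rfl⟩ ⟨w, hw, hwe⟩
    obtain ⟨u₁, rfl⟩ := hle hg₁
    obtain ⟨w', rfl⟩ := hle hw
    simp only [MulEquiv.coe_toMonoidHom, MulAut.conj_apply, conj_tor_center hF, hσ, hρ] at hgA hwe
    rw [tr_inv] at hwe
    simp only [mul_zero, add_zero, tr_pair_mul hF] at hwe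
    exact hno (t * u₁) hgA u₁ hg₁ rfl w' hw (tr_injective hF hwe).2.symm

theorem exists_tr_normal {a b : F} (ha : a ≠ 0) :
    IsConj (tr hF a b : Cfsg.Sz F m) (tr hF 1 0) ∨ IsConj (tr hF a b : Cfsg.Sz F m)⁻¹ (tr hF 1 0) :=
  conj_or_conj_inv hm hF (Or.inr ((orderOf_tr_zero_iff hF).2.2 ha))
    (((orderOf_tr_zero_iff hF).2.2 one_ne_zero).trans ((orderOf_tr_zero_iff hF).2.2 ha).symm)

/-- A group of translations containing an element of order four. -/
theorem bad_order_four {H : Subgroup (Cfsg.Sz F m)} (hle : H ≤ U hF) {a b : F} (ha : a ≠ 0)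
    (hx : tr hF a b ∈ H) : Bad H := by
  obtain ⟨h, hh⟩ : ∃ h : Cfsg.Sz F m, tr hF 1 0 ∈ H.map (MulAut.conj h).toMonoidHom := by
    rcases exists_tr_normal hm hF (b := b) ha with e | e <;> obtain ⟨h, he⟩ := isConj_iff.1 e
    · exact ⟨h, _, hx, he⟩
    · exact ⟨h, _, H.inv_mem hx, he⟩
  refine Bad.of_conj ⟨h, rfl⟩ ?_
  set A := H.map (MulAut.conj h).toMonoidHom with hA
  have hAi : ∀ z ∈ A, z • infty (F := F) m = infty m := by
    have hfix : ∀ z ∈ A, z • h • infty (F := F) m = h • infty m := by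
      refine fixes_of_map_conj (fun z hz => ?_) h
      obtain ⟨c, d, rfl⟩ := hle hz
      exact tr_smul_infty hF c d
    have e := eq_infty_of_tr_fixed hF (Or.inl (one_ne_zero (α := F))) (hfix _ hh)
    rwa [e] at hfix
  have hAtr : ∀ z ∈ A, z ≠ 1 → ∀ p, z • p = p → p = infty (F := F) m := by
    intro z hz hz1 p hp
    obtain ⟨x, hxH, rfl⟩ := hz
    obtain ⟨c, d, rfl⟩ := hle hxH
    have hcd : c ≠ 0 ∨ d ≠ 0 := by
      by_contra hc
      push Not at hc
      rw [hc.1, hc.2, tr_zero, map_one] at hz1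
      exact hz1 rfl
    have hty : IsTrType hF (MulAut.conj h (tr hF c d) : Cfsg.Sz F m) :=
      ⟨h⁻¹, c, d, hcd, show h⁻¹ * (h * tr hF c d * h⁻¹) * h⁻¹⁻¹ = _ by group⟩
    obtain ⟨p₀, -, hu⟩ := hty.exists_fixed hm hF
    exact (hu p hp).trans (hu _ (hAi _ ⟨_, hxH, rfl⟩)).symm
  -- the elements
  have hθ1 : (1 : F) ^ 2 ^ (m + 1) = 1 := one_pow _
  have h0 : (0 : F) ^ 2 ^ (m + 1) = 0 := zero_pow (by positivity)
  have h2 : (2 : F) = 0 := CharTwo.two_eq_zero
  set u : Cfsg.Sz F m := tr hF 1 0 with hu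
  set v : Cfsg.Sz F m := sw hF
  have hsq : tr hF 0 1 ∈ A := by
    have e := A.mul_mem hh hh
    rw [hu, tr_mul, CharTwo.add_self_eq_zero, hθ1, add_zero, zero_add, one_mul] at e
    exact e
  have hu4 : orderOf u = 4 := (orderOf_tr_zero_iff hF).2.2 one_ne_zero
  have hv2 : orderOf v = 2 := by
    refine orderOf_eq_prime (by rw [sq, sw_mul_self]) fun e => ?_
    have := sw_smul_infty (m := m) hF
    rw [show sw hF = (1 : Cfsg.Sz F m) from e, one_smul] at this
    exact point_ne_infty (F := F) (m := m) 0 0 this.symm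
  have hf11 : ovf m (1 : F) 1 = 1 := by
    rw [ovf_eq, map_one]; linear_combination h2
  have hf10 : ovf m (1 : F) 0 = 1 := by rw [ovf_eq, map_one, map_zero]; ring
  have hp2 : v • point (F := F) m 1 1 = point m 1 1 := by
    rw [sw_smul_point hF (by rw [hf11]; exact one_ne_zero), hf11, div_one]
  have hp3 : (u * v) • point (F := F) m 0 1 = point m 0 1 := by
    have hf : ovf m (0 : F) 1 = 1 := by rw [ovf_eq, map_one, map_zero]; ring
    rw [mul_smul, sw_smul_point hF (by rw [hf]; exact one_ne_zero), hf, div_one, hu, tr_smul_point, hθ1]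
    congr 1
    · exact CharTwo.add_self_eq_zero 1
    · simp
  have hz4 : orderOf (u * v) = 4 := by
    have hty : IsTrType hF (u * v) := by
      rcases trType_or_isTor hm hF (g := u * v) (fun e => by
        have : u = v⁻¹ := eq_inv_of_mul_eq_one_left e
        rw [this, orderOf_inv, hv2] at hu4
        exact absurd hu4 (by norm_num)) with h' | h'
      · exact h'
      exfalso
      have h3 : tc (u * v) = 0 := by
        show Matrix.trace (transMat m (1 : F) 0 * swapMat) = 0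
        simp [Matrix.trace, Fin.sum_univ_four, transMat, swapMat, ovf_eq]
        linear_combination h2
      have hne1 : u * v ≠ 1 := fun e => by
        have : u = v⁻¹ := eq_inv_of_mul_eq_one_left e
        rw [this, orderOf_inv, hv2] at hu4
        exact absurd hu4 (by norm_num)
      obtain ⟨k, p, hp, hk⟩ := exists_conj_prodRep hm hF hne1 fun ht => by
        exact ht.notMem_tor hm hF h' (Subgroup.mem_centralizer_singleton_iff.2 rfl)
      have e := congrArg (tc (F := F) (m := m)) hk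
      rw [tc_conj, h3, tc_prodRep] at e
      exact hp ((map_eq_zero _).1 e.symm)
    rcases hty.order_cases hm hF with e | e
    · exfalso
      obtain ⟨p₀, -, huniq⟩ := hty.exists_fixed hm hF
      have hsq' : (u * v) • (u * v) • infty (F := F) m = infty m := by
        rw [smul_smul, mul_self_of_order_two e, one_smul]
      rw [mul_smul u v (infty m), sw_smul_infty, hu, tr_smul_zero, mul_smul, sw_smul_point hF
        (by rw [hf10]; exact one_ne_zero), hf10, div_one, tr_smul_point] at hsq'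
      exact point_ne_infty _ _ hsq'
    · exact e
  -- the conjugates
  obtain ⟨k, hk⟩ := isConj_iff.1 (isConj_involutions hm hF (orderOf_center_tr hF (one_ne_zero (α := F))) hv2)
  obtain ⟨l, hl⟩ : ∃ l : Cfsg.Sz F m, u * v ∈ A.map (MulAut.conj l).toMonoidHom := by
    rcases conj_or_conj_inv hm hF (Or.inr hu4) (hz4.trans hu4.symm) with e | e <;>
      obtain ⟨l, hl⟩ := isConj_iff.1 e
    · exact ⟨l, _, hh, hl⟩
    · exact ⟨l, _, A.inv_mem hh, hl⟩
  set B := A.map (MulAut.conj k).toMonoidHom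
  set C := A.map (MulAut.conj l).toMonoidHom
  have hvB : v ∈ B := ⟨_, hsq, hk⟩
  have uniq : ∀ (g : Cfsg.Sz F m), ∀ x ∈ A.map (MulAut.conj g).toMonoidHom, x ≠ 1 →
      ∀ p, x • p = p → p = g • infty (F := F) m := by
    rintro g _ ⟨x, hx, rfl⟩ hne p hp
    have e := hAtr x hx (fun e => hne (by rw [e, map_one])) (g⁻¹ • p) (by
      rw [eq_inv_smul_iff]
      calc g • x • g⁻¹ • p = (g * x * g⁻¹) • p := by rw [mul_smul, mul_smul]
        _ = p := hp)
    rwa [inv_smul_eq_iff] at e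
  have ek := uniq k v hvB (fun e => by rw [e, orderOf_one] at hv2; exact absurd hv2 (by norm_num)) _ hp2
  have el := uniq l (u * v) hl (fun e => by rw [e, orderOf_one] at hz4; exact absurd hz4 (by norm_num)) _ hp3
  refine ⟨A, B, C, .self A, ⟨k, rfl⟩, ⟨l, rfl⟩, u⁻¹, A.inv_mem hh, v, hvB, by rw [inv_inv]; exact hl,
    fun g hgA hgB hgC => ?_⟩
  rw [inv_inv] at hgC
  have hg1 : g = 1 := by
    by_contra hg1
    have h5 := uniq k g hgB hg1 _ (hAi g hgA)
    rw [← ek] at h5
    exact point_ne_infty _ _ h5.symm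
  subst hg1
  rw [mul_one] at hgC
  have h5 := uniq l u hgC (fun e => by rw [e, orderOf_one] at hu4; exact absurd hu4 (by norm_num)) _
    (tr_smul_infty hF 1 0)
  rw [← el] at h5
  exact point_ne_infty _ _ h5.symm

end Cfsg.Agent.Suzuki.Binary
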